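import Groth.Agent.QuadGrp.K918.LocalEven
import Groth.Agent.QuadGrp.K917.AlgClosed
import Mathlib.Algebra.Polynomial.Roots

/-!
# The theorem of Cartan and Dieudonné over an algebraically closed field, in any characteristic
-/

set_option autoImplicit false
universe u v

open QuadraticMap

namespace K444.CD

open K918.Cliff

section Ne

variable {K : Type u} [Field K] [Infinite K]

theorem exists_ne (a b c d p q r : K) (h1 : a ≠ 0 ∨ b ≠ 0) (h2 : c ≠ 0 ∨ d ≠ 0) (h3 : p ≠ 0 ∨ q ≠ 0 ∨ r ≠ 0) :
    ∃ t : K, a + b * t ≠ 0 ∧ c + d * t ≠ 0 ∧ p + q * t + r * (t * t) ≠ 0 := by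
  by_contra hcon
  push Not at hcon
  let P1 : Polynomial K := Polynomial.C a + Polynomial.C b * Polynomial.X
  let P2 : Polynomial K := Polynomial.C c + Polynomial.C d * Polynomial.X
  let P3 : Polynomial K := Polynomial.C p + Polynomial.C q * Polynomial.X + Polynomial.C r * Polynomial.X ^ 2
  have hP : P1 * P2 * P3 = 0 := by
    apply Polynomial.funext
    intro t
    simp only [P1, P2, P3, Polynomial.eval_mul, Polynomial.eval_add, Polynomial.eval_C, Polynomial.eval_X,
      Polynomial.eval_pow, Polynomial.eval_zero, mul_eq_zero]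
    by_cases h4 : a + b * t = 0
    · exact Or.inl (Or.inl h4)
    · by_cases h5 : c + d * t = 0
      · exact Or.inl (Or.inr h5)
      · right
        rw [pow_two]
        exact hcon t h4 h5
  have c1 : P1.coeff 0 = a := by simp [P1]
  have c2 : P1.coeff 1 = b := by simp [P1, Polynomial.coeff_C]
  have c3 : P2.coeff 0 = c := by simp [P2]
  have c4 : P2.coeff 1 = d := by simp [P2, Polynomial.coeff_C]
  have c5 : P3.coeff 0 = p := by simp [P3]
  have c6 : P3.coeff 1 = q := by simp [P3, Polynomial.coeff_C, Polynomial.coeff_X_pow]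
  have c7 : P3.coeff 2 = r := by simp [P3, Polynomial.coeff_C, Polynomial.coeff_X]
  rcases mul_eq_zero.1 hP with h | h
  · rcases mul_eq_zero.1 h with h | h
    · rw [h, Polynomial.coeff_zero] at c1 c2
      exact h1.elim (fun h => h c1.symm) (fun h => h c2.symm)
    · rw [h, Polynomial.coeff_zero] at c3 c4
      exact h2.elim (fun h => h c3.symm) (fun h => h c4.symm)
  · rw [h, Polynomial.coeff_zero] at c5 c6 c7
    exact h3.elim (fun h => h c5.symm) (fun h => h.elim (fun h => h c6.symm) (fun h => h c7.symm))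

end Ne

variable {K : Type u} [Field K] {V : Type v} [AddCommGroup V] [Module K V] (Q : QuadraticForm K V)

/-- the reflection in an anisotropic vector -/
noncomputable def tau (v : V) (hv : Q v ≠ 0) : V ≃ₗ[K] V := reflection v (Q v)⁻¹ (inv_mul_cancel₀ hv)

theorem tau_apply (v : V) (hv : Q v ≠ 0) (x : V) : tau Q v hv x = x - (polar Q v x * (Q v)⁻¹) • v := by
  rw [tau, reflection_apply, smul_smul]

theorem Q_tau (v : V) (hv : Q v ≠ 0) (x : V) : Q (tau Q v hv x) = Q x := reflection_isometry v _ _ x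

theorem tau_mul_self (v : V) (hv : Q v ≠ 0) : tau Q v hv * tau Q v hv = 1 := by
  ext x
  exact (tau Q v hv).left_inv x

theorem tau_inv (v : V) (hv : Q v ≠ 0) : (tau Q v hv)⁻¹ = tau Q v hv := inv_eq_of_mul_eq_one_left (tau_mul_self Q v hv)

theorem tau_mem (v : V) (hv : Q v ≠ 0) : tau Q v hv ∈ QuadGrp.O Q := Q_tau Q v hv

theorem polar_g {g : V ≃ₗ[K] V} (hg : g ∈ QuadGrp.O Q) (x y : V) : polar Q (g x) (g y) = polar Q x y := by
  rw [polar, polar, ← map_add, hg, hg, hg]

/-- products of reflections, with the parity of the number of factors -/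
inductive Gen : Bool → (V ≃ₗ[K] V) → Prop
  | one : Gen false 1
  | mul {b : Bool} {g : V ≃ₗ[K] V} (v : V) (hv : Q v ≠ 0) : Gen b g → Gen (!b) (tau Q v hv * g)

variable {Q}

theorem Gen.mem {b : Bool} {g : V ≃ₗ[K] V} (h : Gen Q b g) : g ∈ QuadGrp.O Q := by
  induction h with
  | one => exact (QuadGrp.O Q).one_mem
  | mul v hv _ ih => exact (QuadGrp.O Q).mul_mem (tau_mem Q v hv) ih

theorem Gen.mul' {a b : Bool} {g h : V ≃ₗ[K] V} (hg : Gen Q a g) (hh : Gen Q b h) : Gen Q (xor a b) (g * h) := by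
  induction hg with
  | one => rw [one_mul]; simpa using hh
  | @mul a g v hv _ ih =>
    have : (xor (!a) b) = !(xor a b) := by cases a <;> cases b <;> rfl
    rw [this, mul_assoc]
    exact Gen.mul v hv ih

theorem gen_tau (v : V) (hv : Q v ≠ 0) : Gen Q true (tau Q v hv) := by
  have := Gen.mul v hv (Gen.one (Q := Q))
  rwa [mul_one] at this

theorem Gen.inv {b : Bool} {g : V ≃ₗ[K] V} (h : Gen Q b g) : Gen Q b g⁻¹ := by
  induction h with
  | one => rw [inv_one]; exact Gen.one
  | @mul b g v hv _ ih =>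
    rw [mul_inv_rev, tau_inv]
    have := ih.mul' (gen_tau v hv)
    have h2 : xor b true = !b := by cases b <;> rfl
    rwa [h2] at this

/-- the reflection in `x - y` carries `y` to `x` -/
theorem tau_sub {x y : V} (hxy : Q x = Q y) (h : Q (x - y) ≠ 0) : tau Q (x - y) h y = x := by
  have h1 : Q (x - y) = Q x + Q y - polar Q x y := by
    rw [sub_eq_add_neg, K917.Split.polar_add_left', QuadraticMap.map_neg, polar_neg_right]; ring
  have h2 : polar Q (x - y) y = - Q (x - y) := by
    rw [polar_sub_left, K917.Split.polar_self', h1, hxy]; ring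
  rw [tau_apply, h2, neg_mul, mul_inv_cancel₀ h, neg_one_smul, sub_neg_eq_add]
  abel

theorem exists_w [Infinite K] (P : Submodule K V) {x y : V}
    {w1 : V} (h1P : w1 ∈ P) (h1 : polar Q w1 x ≠ 0) {w2 : V} (h2P : w2 ∈ P) (h2 : polar Q w2 y ≠ 0)
    {w3 : V} (h3P : w3 ∈ P) (h3 : Q w3 ≠ 0) : ∃ w ∈ P, polar Q w x ≠ 0 ∧ polar Q w y ≠ 0 ∧ Q w ≠ 0 := by
  obtain ⟨t, ht1, ht2, -⟩ := exists_ne (polar Q w1 x) (polar Q w2 x) (polar Q w1 y) (polar Q w2 y) 1 0 0
    (Or.inl h1) (Or.inr h2) (Or.inl one_ne_zero)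
  have e1 : ∀ z, polar Q (w1 + t • w2) z = polar Q w1 z + polar Q w2 z * t := fun z => by
    rw [polar_add_left, polar_smul_left, smul_eq_mul, mul_comm t]
  rw [← e1] at ht1 ht2
  obtain ⟨s, hs1, hs2, hs3⟩ := exists_ne (polar Q (w1 + t • w2) x) (polar Q w3 x) (polar Q (w1 + t • w2) y) (polar Q w3 y)
    (Q (w1 + t • w2)) (polar Q (w1 + t • w2) w3) (Q w3) (Or.inl ht1) (Or.inl ht2) (Or.inr (Or.inr h3))
  have e2 : ∀ z, polar Q (w1 + t • w2 + s • w3) z = polar Q (w1 + t • w2) z + polar Q w3 z * s := fun z => by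
    rw [polar_add_left, polar_smul_left, smul_eq_mul, mul_comm s]
  refine ⟨w1 + t • w2 + s • w3, P.add_mem (P.add_mem h1P (P.smul_mem _ h2P)) (P.smul_mem _ h3P), ?_, ?_, ?_⟩
  · rw [e2]; exact hs1
  · rw [e2]; exact hs2
  · rw [K917.Split.polar_add_left', polar_smul_right, QuadraticMap.map_smul, smul_eq_mul, smul_eq_mul]
    intro h
    apply hs3
    linear_combination h

/-- transitivity on vectors -/
theorem exists_gen [Infinite K] (P : Submodule K V) {x y : V} (hP : x - y ∈ P) (hxy : Q x = Q y)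
    {w1 : V} (h1P : w1 ∈ P) (h1 : polar Q w1 x ≠ 0) {w2 : V} (h2P : w2 ∈ P) (h2 : polar Q w2 y ≠ 0)
    {w3 : V} (h3P : w3 ∈ P) (h3 : Q w3 ≠ 0) :
    ∃ (b : Bool) (h : V ≃ₗ[K] V), Gen Q b h ∧ h y = x ∧ ∀ z, (∀ w ∈ P, polar Q w z = 0) → h z = z := by
  have hfix : ∀ v (hv : Q v ≠ 0), v ∈ P → ∀ z, (∀ w ∈ P, polar Q w z = 0) → tau Q v hv z = z := by
    intro v hv hvP z hz
    rw [tau_apply, hz v hvP, zero_mul, zero_smul, sub_zero]
  by_cases h : Q (x - y) = 0
  · obtain ⟨w, hwP, hwx, hwy, hw⟩ := exists_w P h1P h1 h2P h2 h3P h3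
    set y' := tau Q w hw y with hy'
    have hQy : Q x = Q y' := by rw [hy', Q_tau, hxy]
    have e1 : x - y' = (x - y) + (polar Q w y * (Q w)⁻¹) • w := by rw [hy', tau_apply]; abel
    have hP' : x - y' ∈ P := by rw [e1]; exact P.add_mem hP (P.smul_mem _ hwP)
    have hne : Q (x - y') ≠ 0 := by
      rw [e1, K917.Split.polar_add_left', h, QuadraticMap.map_smul, polar_smul_right, polar_sub_left, polar_comm Q x w,
        polar_comm Q y w, smul_eq_mul, smul_eq_mul]
      have : 0 + polar Q w y * (Q w)⁻¹ * (polar Q w y * (Q w)⁻¹) * Q w +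
          polar Q w y * (Q w)⁻¹ * (polar Q w x - polar Q w y) = polar Q w y * (Q w)⁻¹ * polar Q w x := by
        field_simp
        ring
      rw [this]
      exact mul_ne_zero (mul_ne_zero hwy (inv_ne_zero hw)) hwx
    refine ⟨_, tau Q (x - y') hne * tau Q w hw, Gen.mul _ hne (gen_tau w hw), tau_sub hQy hne, fun z hz => ?_⟩
    change tau Q (x - y') hne (tau Q w hw z) = z
    rw [hfix w hw hwP z hz, hfix _ hne hP' z hz]
  · exact ⟨_, _, gen_tau (x - y) h, tau_sub hxy h, hfix _ h hP⟩

theorem mul_apply' (g h : V ≃ₗ[K] V) (x : V) : (g * h) x = g (h x) := rfl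

/-- a hyperbolic pair may be moved back by reflections -/
theorem exists_fix_pair [Infinite K] (hQ : ∀ v, Q v = 0 → (∀ w, polar Q v w = 0) → v = 0) {e f : V} (he : Q e = 0)
    (hf : Q f = 0) (hef : polar Q e f = 1) {g : V ≃ₗ[K] V} (hg : g ∈ QuadGrp.O Q) :
    ∃ (b : Bool) (h : V ≃ₗ[K] V), Gen Q b h ∧ h (g e) = e ∧ h (g f) = f := by
  have hfe : polar Q f e = 1 := by rw [polar_comm, hef]
  obtain ⟨b1, h1, hb1, h1e, -⟩ := exists_gen (Q := Q) ⊤ (x := e) (y := g e) trivial (hg e).symm
    (w1 := f) trivial (by rw [hfe]; exact one_ne_zero) (w2 := g f) trivial (by rw [polar_g Q hg, hfe]; exact one_ne_zero)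
    (w3 := e + f) trivial (by rw [K917.Split.polar_add_left', he, hf, hef]; simp)
  have hef' : polar Q e (h1 (g f)) = 1 := by
    conv_lhs => rw [← h1e]
    rw [polar_g Q hb1.mem, polar_g Q hg, hef]
  have hf' : Q (h1 (g f)) = 0 := by rw [hb1.mem, hg, hf]
  have hee : polar Q e e = 0 := by rw [K917.Split.polar_self', he, mul_zero]
  have hmem : ∀ w, w ∈ LinearMap.ker (polarBilin Q e) ↔ polar Q e w = 0 := fun w => Iff.rfl
  have hu : f - h1 (g f) ∈ LinearMap.ker (polarBilin Q e) := by
    rw [hmem, polar_sub_right, hef, hef', sub_self]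
  by_cases hw : ∃ w ∈ LinearMap.ker (polarBilin Q e), Q w ≠ 0
  · obtain ⟨w, hwP, hw⟩ := hw
    obtain ⟨b2, h2, hb2, h2f, h2fix⟩ := exists_gen (Q := Q) (LinearMap.ker (polarBilin Q e)) (x := f) (y := h1 (g f)) hu
      (by rw [hf, hf']) (w1 := e) ((hmem e).2 hee) (by rw [hef]; exact one_ne_zero)
      (w2 := e) ((hmem e).2 hee) (by rw [hef']; exact one_ne_zero) hwP hw
    refine ⟨_, h2 * h1, hb2.mul' hb1, ?_, ?_⟩
    · rw [mul_apply', h1e]
      exact h2fix e fun w hw => by rw [polar_comm]; exact (hmem w).1 hw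
    · rw [mul_apply', h2f]
  · push Not at hw
    refine ⟨b1, h1, hb1, h1e, ?_⟩
    set u := f - h1 (g f) with hud
    have huf : h1 (g f) = f - u := by rw [hud]; abel
    have hQu : Q u = 0 := hw u hu
    have hup : ∀ w, polar Q e w = 0 → polar Q u w = 0 := by
      intro w hw'
      have h3 : u + w ∈ LinearMap.ker (polarBilin Q e) := Submodule.add_mem _ hu ((hmem w).2 hw')
      rw [polar, hw _ h3, hQu, hw w ((hmem w).2 hw')]; ring
    have hufz : polar Q u f = 0 := by
      have h3 : Q (f - u) = 0 := by rw [← huf, hf']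
      rw [sub_eq_add_neg, K917.Split.polar_add_left', QuadraticMap.map_neg, polar_neg_right, hf, hQu] at h3
      rw [polar_comm]
      linear_combination -h3
    have hu0 : u = 0 := by
      refine hQ u hQu fun v => ?_
      have h3 : v = polar Q e v • f + (v - polar Q e v • f) := by abel
      rw [h3, polar_add_right, polar_smul_right, hufz, smul_zero, zero_add]
      apply hup
      rw [polar_sub_right, polar_smul_right, hef, smul_eq_mul, mul_one, sub_self]
    rw [huf, hu0, sub_zero]

section Decomp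

variable {e f : V} (he : Q e = 0) (hf : Q f = 0) (hef : polar Q e f = 1)

/-- the orthogonal of a hyperbolic pair -/
def orth (Q : QuadraticForm K V) (e f : V) : Submodule K V := LinearMap.ker (polarBilin Q e) ⊓ LinearMap.ker (polarBilin Q f)

theorem mem_orth {w : V} : w ∈ orth Q e f ↔ polar Q e w = 0 ∧ polar Q f w = 0 := Iff.rfl

include he hf hef

theorem decomp_mem (v : V) : v - (polar Q f v • e + polar Q e v • f) ∈ orth Q e f := by
  have hfe : polar Q f e = 1 := by rw [polar_comm, hef]
  rw [mem_orth]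
  constructor
  · rw [polar_sub_right, polar_add_right, polar_smul_right, polar_smul_right, hef, K917.Split.polar_self', he]
    simp
  · rw [polar_sub_right, polar_add_right, polar_smul_right, polar_smul_right, hfe, K917.Split.polar_self', hf]
    simp

theorem orth_radical (hQ : ∀ v, Q v = 0 → (∀ w, polar Q v w = 0) → v = 0) (v : orth Q e f)
    (hv : Q.comp (orth Q e f).subtype v = 0) (h : ∀ w, polar (Q.comp (orth Q e f).subtype) v w = 0) : v = 0 := by
  apply Subtype.ext
  refine hQ v.1 hv fun w => ?_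
  have h1 : w = (polar Q f w • e + polar Q e w • f) + (w - (polar Q f w • e + polar Q e w • f)) := by abel
  rw [h1, polar_add_right, polar_add_right, polar_smul_right, polar_smul_right, polar_comm Q v.1 e, polar_comm Q v.1 f,
    (mem_orth.1 v.2).1, (mem_orth.1 v.2).2, smul_zero, smul_zero, add_zero, zero_add]
  exact h ⟨_, decomp_mem he hf hef w⟩

theorem ext_of_decomp {g h : V ≃ₗ[K] V} (h1 : g e = h e) (h2 : g f = h f) (h3 : ∀ w ∈ orth Q e f, g w = h w) : g = h := by
  ext v
  have h4 : v = (polar Q f v • e + polar Q e v • f) + (v - (polar Q f v • e + polar Q e v • f)) := by abel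
  rw [h4]
  simp only [map_add g, map_add h, map_smul g, map_smul h, h1, h2, h3 _ (decomp_mem he hf hef v)]

omit he hf hef in
theorem lift_gen (hef : polar Q e f = 1) {b : Bool} {k : orth Q e f ≃ₗ[K] orth Q e f} (hk : Gen (Q.comp (orth Q e f).subtype) b k) :
    ∃ h : V ≃ₗ[K] V, Gen Q b h ∧ h e = e ∧ h f = f ∧ ∀ w : orth Q e f, h w = k w := by
  induction hk with
  | one => exact ⟨1, Gen.one, rfl, rfl, fun w => rfl⟩
  | @mul b g v hv _ ih =>
    obtain ⟨h, hb, h1, h2, h3⟩ := ih
    have hv' : Q v.1 ≠ 0 := hv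
    refine ⟨tau Q v.1 hv' * h, Gen.mul _ _ hb, ?_, ?_, fun w => ?_⟩
    · rw [mul_apply', h1, tau_apply, polar_comm, (mem_orth.1 v.2).1, zero_mul, zero_smul, sub_zero]
    · rw [mul_apply', h2, tau_apply, polar_comm, (mem_orth.1 v.2).2, zero_mul, zero_smul, sub_zero]
    · rw [mul_apply', h3, tau_apply, mul_apply', tau_apply]
      rfl

end Decomp

/-- **the theorem of Cartan and Dieudonné** -/
theorem exists_gen_of_mem [IsAlgClosed K] (n : ℕ) : ∀ {V : Type v} [AddCommGroup V] [Module K V]
    [FiniteDimensional K V], Module.finrank K V = n → ∀ (Q : QuadraticForm K V),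
    (∀ v, Q v = 0 → (∀ w, polar Q v w = 0) → v = 0) → ∀ g ∈ QuadGrp.O Q, ∃ b, Gen Q b g := by
  have hinf : Infinite K := IsAlgClosed.instInfinite
  induction n using Nat.strong_induction_on with
  | _ n ih =>
    intro V _ _ _ hn Q hQ g hg
    by_cases h0 : n = 0
    · subst h0
      have : Subsingleton V := Module.finrank_zero_iff.1 hn
      refine ⟨false, ?_⟩
      have : g = 1 := by ext x; exact Subsingleton.elim _ _
      rw [this]
      exact Gen.one
    by_cases h1 : n = 1
    · subst h1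
      obtain ⟨v, hv0, hv⟩ := finrank_eq_one_iff'.mp hn
      have hQv : Q v ≠ 0 := by
        intro h
        refine hv0 (hQ v h fun w => ?_)
        obtain ⟨c, rfl⟩ := hv w
        rw [polar_smul_right, K917.Split.polar_self', h, mul_zero, smul_zero]
      obtain ⟨c, hc⟩ := hv (g v)
      have hc2 : c * c = 1 := by
        have h2 := hg v
        rw [← hc, QuadraticMap.map_smul, smul_eq_mul] at h2
        exact mul_right_cancel₀ hQv (by rw [h2, one_mul])
      rcases mul_self_eq_one_iff.1 hc2 with h | h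
      · refine ⟨false, ?_⟩
        have : g = 1 := by
          ext x
          obtain ⟨d, rfl⟩ := hv x
          rw [map_smul, ← hc, h, one_smul]
          rfl
        rw [this]
        exact Gen.one
      · refine ⟨true, ?_⟩
        have : g = tau Q v hQv := by
          ext x
          obtain ⟨d, rfl⟩ := hv x
          rw [map_smul, ← hc, h, map_smul, tau_apply, K917.Split.polar_self', mul_assoc, mul_inv_cancel₀ hQv]
          module
        rw [this]
        exact gen_tau v hQv
    obtain ⟨x, hx⟩ : ∃ x : V, x ≠ 0 := by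
      have : Nontrivial V := Module.finrank_pos_iff.1 (by omega : 0 < Module.finrank K V)
      exact _root_.exists_ne 0
    obtain ⟨y, hxy⟩ := exists_linearIndependent_pair_of_one_lt_finrank (R := K) (M := V) (by omega) hx
    obtain ⟨e, f, he, hf, hef⟩ := K917.Split.exists_hyperbolic Q hQ x y hxy
    obtain ⟨b1, h, hb1, hge, hgf⟩ := exists_fix_pair hQ he hf hef hg
    have hg' : h * g ∈ QuadGrp.O Q := (QuadGrp.O Q).mul_mem hb1.mem hg
    have hmap : ∀ w ∈ orth Q e f, (h * g) w ∈ orth Q e f := by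
      intro w hw
      rw [mem_orth] at hw ⊢
      constructor
      · conv_lhs => rw [← hge, ← mul_apply']
        rw [polar_g Q hg', hw.1]
      · conv_lhs => rw [← hgf, ← mul_apply']
        rw [polar_g Q hg', hw.2]
    have hinv : ∀ z, (h * g)⁻¹ ((h * g) z) = z := fun z => (h * g).symm_apply_apply z
    have hmap' : ∀ w ∈ orth Q e f, (h * g)⁻¹ w ∈ orth Q e f := by
      have hi : (h * g)⁻¹ ∈ QuadGrp.O Q := (QuadGrp.O Q).inv_mem hg'
      have h1 : (h * g)⁻¹ e = e := by
        conv_lhs => rw [← hge, ← mul_apply' h g e]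
        exact hinv e
      have h2 : (h * g)⁻¹ f = f := by
        conv_lhs => rw [← hgf, ← mul_apply' h g f]
        exact hinv f
      intro w hw
      rw [mem_orth] at hw ⊢
      constructor
      · conv_lhs => rw [← h1]
        rw [polar_g Q hi, hw.1]
      · conv_lhs => rw [← h2]
        rw [polar_g Q hi, hw.2]
    let gW : orth Q e f ≃ₗ[K] orth Q e f :=
      { toFun := fun w => ⟨(h * g) w, hmap w w.2⟩
        map_add' := fun x y => Subtype.ext (map_add (h * g) _ _)
        map_smul' := fun c x => Subtype.ext (map_smul (h * g) _ _)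
        invFun := fun w => ⟨(h * g)⁻¹ w, hmap' w w.2⟩
        left_inv := fun w => Subtype.ext (hinv w)
        right_inv := fun w => Subtype.ext ((h * g).apply_symm_apply w) }
    have hlt : Module.finrank K (orth Q e f) < n := by
      rw [← hn]
      apply Submodule.finrank_lt
      intro htop
      have h1 : e ∈ orth Q e f := by rw [htop]; trivial
      have h2 := (mem_orth.1 h1).2
      rw [polar_comm, hef] at h2
      exact one_ne_zero h2
    obtain ⟨b2, hb2⟩ := ih _ hlt rfl (Q.comp (orth Q e f).subtype) (orth_radical he hf hef hQ) gW (fun w => hg' w)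
    obtain ⟨k, hk, hke, hkf, hkw⟩ := lift_gen hef hb2
    have : k = h * g := ext_of_decomp he hf hef (by rw [hke, mul_apply', hge]) (by rw [hkf, mul_apply', hgf])
      (fun w hw => hkw ⟨w, hw⟩)
    rw [this] at hk
    have h3 := hb1.inv.mul' hk
    rw [inv_mul_cancel_left] at h3
    exact ⟨_, h3⟩

end K444.CD
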