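import Mathlib.AlgebraicGeometry.Fiber
import Mathlib.AlgebraicGeometry.Morphisms.Smooth
import Mathlib.FieldTheory.IsAlgClosed.AlgebraicClosure
import Mathlib.AlgebraicGeometry.PullbackCarrier
import Mathlib.RingTheory.Spectrum.Prime.Topology

/-!
# Connectedness of fibres from idempotents over algebraically closed fields
-/

set_option autoImplicit false
universe u

open CategoryTheory CategoryTheory.Limits AlgebraicGeometry TensorProduct

noncomputable section

namespace K444.ConnFib

theorem connectedSpace_primeSpectrum {A : Type*} [CommRing A] [Nontrivial A]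
    (h : ∀ e : A, IsIdempotentElem e → e = 0 ∨ e = 1) : ConnectedSpace (PrimeSpectrum A) := by
  have h1 : PreconnectedSpace (PrimeSpectrum A) := by
    rw [preconnectedSpace_iff_clopen]
    intro s hs
    obtain ⟨e, he, rfl⟩ := PrimeSpectrum.isClopen_iff.1 hs
    rcases h e he with rfl | rfl
    · left
      rw [PrimeSpectrum.basicOpen_zero]; rfl
    · right
      rw [PrimeSpectrum.basicOpen_one]; rfl
  exact ⟨inferInstance⟩

theorem connectedSpace_of_surjective {X Y : Scheme.{u}} (f : X ⟶ Y) [Surjective f] [ConnectedSpace X] :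
    ConnectedSpace Y :=
  (Scheme.Hom.surjective f).connectedSpace f.continuous

theorem connectedSpace_of_iso {X Y : Scheme.{u}} (f : X ⟶ Y) [IsIso f] [ConnectedSpace X] :
    ConnectedSpace Y := connectedSpace_of_surjective f

/-- connectedness of a fibre from that of a geometric fibre -/
theorem connectedSpace_fiber {X S : Scheme.{u}} (f : X ⟶ S)
    (h : ∀ (K : Type u) [Field K] [IsAlgClosed K] (σ : Spec (CommRingCat.of K) ⟶ S), ConnectedSpace ↥(pullback f σ))
    (s : S) : ConnectedSpace ↥(f.fiber s) := by
  let K := AlgebraicClosure (S.residueField s)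
  let t : Spec (CommRingCat.of K) ⟶ Spec (S.residueField s) :=
    Spec.map (CommRingCat.ofHom (algebraMap (S.residueField s) K))
  have ht : Surjective t := by
    constructor
    intro y
    have : Unique (Spec (S.residueField s)) := inferInstanceAs (Unique (PrimeSpectrum (S.residueField s)))
    exact ⟨IsLocalRing.closedPoint K, Subsingleton.elim _ _⟩
  have h1 := h K (t ≫ S.fromSpecResidueField s)
  have h2 : ConnectedSpace ↥(pullback (pullback.snd f (S.fromSpecResidueField s)) t) :=
    connectedSpace_of_iso (pullbackLeftPullbackSndIso f (S.fromSpecResidueField s) t).inv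
  have h3 := connectedSpace_of_surjective (pullback.fst (pullback.snd f (S.fromSpecResidueField s)) t)
  exact h3

/-- the case of a spectrum -/
theorem connectedSpace_pullback_spec {R C : Type u} [CommRing R] [CommRing C] [Algebra R C]
    (h : ∀ (K : Type u) [Field K] [IsAlgClosed K] [Algebra R K], ConnectedSpace (PrimeSpectrum (K ⊗[R] C)))
    (K : Type u) [Field K] [IsAlgClosed K] (σ : Spec (CommRingCat.of K) ⟶ Spec (CommRingCat.of R)) :
    ConnectedSpace ↥(pullback (Spec.map (CommRingCat.ofHom (algebraMap R C))) σ) := by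
  obtain ⟨ρ, rfl⟩ := Spec.map_surjective σ
  let _ : Algebra R K := ρ.hom.toAlgebra
  have h1 := h K
  have h2 : ConnectedSpace ↥(Spec (CommRingCat.of (C ⊗[R] K))) := by
    have e : (K ⊗[R] C) ≃+* (C ⊗[R] K) := (Algebra.TensorProduct.comm R K C).toRingEquiv
    exact (PrimeSpectrum.homeomorphOfRingEquiv e).surjective.connectedSpace (PrimeSpectrum.homeomorphOfRingEquiv e).continuous
  exact connectedSpace_of_iso (pullbackSpecIso R C K).inv

theorem connectedSpace_fiber_of_iso {S X Y : Scheme.{u}} (f : X ⟶ S) (g : Y ⟶ S) (i : Y ⟶ X) [IsIso i] (hi : i ≫ f = g)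
    (h : ∀ (K : Type u) [Field K] [IsAlgClosed K] (σ : Spec (CommRingCat.of K) ⟶ S), ConnectedSpace ↥(pullback f σ))
    (s : S) : ConnectedSpace ↥(g.fiber s) := by
  refine connectedSpace_fiber g (fun K _ _ σ => ?_) s
  have h1 := h K σ
  let j : pullback g σ ⟶ pullback f σ := pullback.map g σ f σ i (𝟙 _) (𝟙 _) (by rw [Category.comp_id, hi])
    (by rw [Category.comp_id, Category.id_comp])
  have : IsIso j := pullback.map_isIso _ _ _ _ _ _ _ _ _
  exact connectedSpace_of_iso (inv j)

end K444.ConnFib
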