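import Groth.Agent.QuadGrp.K916.DicksonGlob
import Groth.Agent.QuadGrp.K918.Dickson

/-!
# Functoriality of the Dickson invariant
-/

set_option autoImplicit false
universe u v w u'

open CliffordAlgebra TensorProduct

namespace K444.DFunc

open K916.BC K916.Dickson K916.Glob K916.Parts K916.Center K916.FamBC K916.DicksonGlob K916

attribute [local instance] Split.MatCl.fin Split.MatCl.dec

section Split

variable {A B : Type u} [CommRing A] [CommRing B] [Algebra A B] {m : ℕ}

/-- functoriality of the Dickson invariant for split forms -/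
theorem delta_eq (hm : m ≠ 0) (g : (Fin (2 * m) → A) ≃ₗ[A] (Fin (2 * m) → A)) (hg : g ∈ QuadGrp.O (QuadGrp.splitForm A (2 * m)))
    (g' : (Fin (2 * m) → B) ≃ₗ[B] (Fin (2 * m) → B)) (hg' : g' ∈ QuadGrp.O (QuadGrp.splitForm B (2 * m)))
    (hgg : ∀ x, g' (coordMap A B _ x) = coordMap A B _ (g x)) {δ : A} {δ' : B}
    (hδ : cg g hg (eps (SplitForm.matClSplit A m)) =
      (1 - δ) • eps (SplitForm.matClSplit A m) + δ • (1 - eps (SplitForm.matClSplit A m)))
    (hδ' : cg g' hg' (eps (SplitForm.matClSplit B m)) =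
      (1 - δ') • eps (SplitForm.matClSplit B m) + δ' • (1 - eps (SplitForm.matClSplit B m))) :
    algebraMap A B δ = δ' := by
  set E := SplitForm.matClSplit A m with hE
  set E' := SplitForm.matClSplit B m with hE'
  have hcompat := (isBC_split A B (2 * m)).compat
  obtain ⟨ε, hε⟩ : ∃ ε, ε = cmap hcompat (eps E) := ⟨_, rfl⟩
  have hodd : ∀ w : Fin (2 * m) → B, ι _ w * ε = (1 - ε) * ι _ w := by
    intro w
    refine forall_of_image (isBC_split A B (2 * m))
      (LinearMap.mulRight B ε ∘ₗ ι _) (LinearMap.mulLeft B (1 - ε) ∘ₗ ι _) (fun u => ?_) w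
    change ι _ (coordMap _ B _ u) * ε = (1 - ε) * ι _ (coordMap _ B _ u)
    rw [hε, ← cmap_ι hcompat, ← map_mul, ← map_one (cmap hcompat), ← map_sub, ← map_mul,
      odd_mul_eps E (ι_mem_evenOdd_one _ u)]
  have hcomm : ∀ y ∈ evenOdd (QuadGrp.splitForm B (2 * m)) 0, y * ε = ε * y := fun y hy =>
    K918.Cliff.even_comm_t (p := (1 : B)) (fun v => by rw [hodd, one_smul]; noncomm_ring) y hy
  obtain ⟨a, b, hab⟩ := exists_of_central E' (z := ε) fun x hx => (hcomm x hx).symm
  have hidem : ε * ε = ε := by rw [hε, ← map_mul, eps_mul_self]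
  rw [hab, lin_mul] at hidem
  have ha : a * a = a := (lin_injective E' hm hidem).1
  -- `b = 1 - a`
  have hb : b = 1 - a := by
    obtain ⟨i0, hi0⟩ := E'.exists_idx hm 0
    obtain ⟨i1, hi1⟩ := E'.exists_idx hm 1
    have hx : E'.Φ.symm (Matrix.single i0 i1 1) ∈ evenOdd (QuadGrp.splitForm B (2 * m)) 1 := by
      rw [E'.mem_iff, AlgEquiv.apply_symm_apply]
      exact Split.single_mem_gmat (by rw [hi0, hi1]; rfl) 1
    have h1 := K918.Cliff.odd_t (p := (1 : B)) (t := ε) (fun v => by rw [hodd, one_smul]; noncomm_ring) _ hx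
    have h2 := congrArg E'.Φ h1
    rw [map_one, map_mul, map_mul, map_sub, map_one, AlgEquiv.apply_symm_apply, hab, Φ_lin] at h2
    have h3 := congrFun (congrFun h2 i0) i1
    rw [Matrix.mul_diagonal, Matrix.sub_mul, Matrix.sub_apply, Matrix.one_mul, Matrix.diagonal_mul, hi0, hi1, if_pos rfl,
      if_neg (by decide), Matrix.single_apply_same, one_mul, mul_one] at h3
    exact h3
  subst hb
  -- the action on `ε` in two ways
  have h5 : cg g' hg' ε = (1 - algebraMap A B δ) • ε + algebraMap A B δ • (1 - ε) := by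
    rw [hε, ← cmap_cg hcompat g hg g' hg' hgg, hδ, map_add, map_smul, map_smul, map_sub, map_one]
    have hs : ∀ (t : A) (x : CliffordAlgebra (QuadGrp.splitForm B (2 * m))), t • x = algebraMap A B t • x := fun t x =>
      (algebraMap_smul B t x).symm
    rw [hs, hs, map_sub, map_one]
  have h6 : cg g' hg' ε = a • cg g' hg' (eps E') + (1 - a) • (1 - cg g' hg' (eps E')) := by
    rw [hab, map_add, map_smul, map_smul, map_sub, map_one]
  rw [h6, hδ', hab] at h5
  have h7 : (a * (1 - δ') + (1 - a) * δ') • eps E' + (a * δ' + (1 - a) * (1 - δ')) • (1 - eps E') =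
      ((1 - algebraMap A B δ) * a + algebraMap A B δ * (1 - a)) • eps E' +
        ((1 - algebraMap A B δ) * (1 - a) + algebraMap A B δ * a) • (1 - eps E') := by
    refine Eq.trans ?_ (h5.trans ?_)
    · module
    · module
  obtain ⟨h8, -⟩ := lin_injective E' hm h7
  linear_combination (4 * (δ' - algebraMap A B δ)) * ha - (1 - 2 * a) * h8

end Split

section Compat

variable {A : Type u} [CommRing A] {M : Type v} [AddCommGroup M] [Module A M]
variable {B : Type u} [CommRing B] [Algebra A B] {N : Type w} [AddCommGroup N] [Module A N] [Module B N] [IsScalarTower A B N]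
variable {B' : Type u} [CommRing B'] [Algebra B B'] {N' : Type u'} [AddCommGroup N'] [Module B N'] [Module B' N']
  [IsScalarTower B B' N']

/-- compatibility of quadratic forms may be tested on a generating image -/
theorem compat_of_image {f : M →ₗ[A] N} (hf : IsBaseChange B f) {P : QuadraticForm B N} {P' : QuadraticForm B' N'}
    {h : N →ₗ[B] N'} (H : ∀ v, P' (h (f v)) = algebraMap B B' (P (f v))) : Compat B' P P' h := by
  have hs : ∀ (c : B) (x : N'), c • x = algebraMap B B' c • x := fun c x => (algebraMap_smul B' c x).symm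
  have hp0 : ∀ v w, QuadraticMap.polar P' (h (f v)) (h (f w)) = algebraMap B B' (QuadraticMap.polar P (f v) (f w)) := by
    intro v w
    rw [QuadraticMap.polar, QuadraticMap.polar, ← map_add h, ← map_add f, H, H, H, map_add f, map_sub, map_sub]
  have hp : ∀ x y, QuadraticMap.polar P' (h x) (h y) = algebraMap B B' (QuadraticMap.polar P x y) := by
    intro x y
    induction x using hf.inductionOn with
    | zero => rw [map_zero, QuadraticMap.polar_zero_left, QuadraticMap.polar_zero_left, map_zero]
    | tmul v =>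
      induction y using hf.inductionOn with
      | zero => rw [map_zero, QuadraticMap.polar_zero_right, QuadraticMap.polar_zero_right, map_zero]
      | tmul w => exact hp0 v w
      | smul a y hy => rw [map_smul, hs, QuadraticMap.polar_smul_right, QuadraticMap.polar_smul_right, hy, smul_eq_mul,
          smul_eq_mul, map_mul]
      | add y z hy hz => rw [map_add, QuadraticMap.polar_add_right, QuadraticMap.polar_add_right, hy, hz, map_add]
    | smul a y hy => rw [map_smul, hs, QuadraticMap.polar_smul_left, QuadraticMap.polar_smul_left, hy, smul_eq_mul,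
          smul_eq_mul, map_mul]
    | add y z hy hz => rw [map_add, QuadraticMap.polar_add_left, QuadraticMap.polar_add_left, hy, hz, map_add]
  intro x
  induction x using hf.inductionOn with
  | zero => rw [map_zero, map_zero, map_zero, map_zero]
  | tmul v => exact H v
  | smul a y hy => rw [map_smul, hs, QuadraticMap.map_smul, QuadraticMap.map_smul, hy, smul_eq_mul, smul_eq_mul, map_mul,
      map_mul]
  | add y z hy hz =>
    have h1 := hp y z
    rw [QuadraticMap.polar, QuadraticMap.polar, map_sub, map_sub] at h1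
    rw [map_add h]
    linear_combination h1 + hy + hz

end Compat

section Main

variable {A : Type u} [CommRing A] {M : Type u} [AddCommGroup M] [Module A M] [Module.Free A M] [Module.Finite A M]

/-- **the Dickson invariant is functorial** -/
theorem exists_univ {m : ℕ} (hm : m ≠ 0) (b : Module.Basis (Fin (2 * m)) A M) (P : QuadraticForm A M)
    (hP : QuadGrp.IsRegular P) (g : M ≃ₗ[A] M) (hg : g ∈ QuadGrp.O P) :
    ∃ e : A, IsIdempotentElem e ∧ ∀ (B : Type u) [CommRing B] [Algebra A B] (N : Type u) [AddCommGroup N] [Module A N]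
      [Module B N] [IsScalarTower A B N] (P' : QuadraticForm B N) (f : M →ₗ[A] N), IsBC B P P' f →
      ∀ (g' : N ≃ₗ[B] N) (hg' : g' ∈ QuadGrp.O P'), (∀ v, g' (f v) = f (g v)) →
      (QuadGrp.IsDicksonTrivial P' g' hg' ↔ algebraMap A B e = 0) := by
  obtain ⟨A', _, _, _, _, f₁, hf₁⟩ := exists_isBC b P ⟨fun _ => hP, fun h => absurd h (by
    rw [Nat.not_odd_iff_even]; exact even_two_mul m)⟩
  have : Module.Finite A (CliffordAlgebra P) := Basic.module_finite P
  obtain ⟨δ₁, hδ₁, hδg₁⟩ := Dickson.exists_dickson (SplitForm.matClSplit A' m) hm _ (bcEquiv_mem hf₁ hg)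
  obtain ⟨e, he, heδ, -⟩ := exists_dickson_of_isBC hf₁ (SplitForm.matClSplit A' m) hm g hg _ (bcEquiv_mem hf₁ hg)
    (bcEquiv_apply hf₁.isBaseChange g) hδ₁ hδg₁
  refine ⟨e, he, ?_⟩
  intro B _ _ N _ _ _ _ P' f hf g' hg' hgg
  have hNfree : Module.Free B N := Module.Free.of_equiv hf.isBaseChange.equiv
  have hNfin : Module.Finite B N := Module.Finite.equiv hf.isBaseChange.equiv
  have : Module.Finite B (CliffordAlgebra P') := Basic.module_finite P'
  let B' := B ⊗[A] A'
  let _ : Algebra A' B' := Algebra.TensorProduct.rightAlgebra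
  have hBC1 : IsBaseChange B' (coordMap A' B' (2 * m)) := isBaseChange_coordMap A' B' (2 * m)
  let k : M →ₗ[A] (Fin (2 * m) → B') := (coordMap A' B' (2 * m)).restrictScalars A ∘ₗ f₁
  have hk : IsBaseChange B' k := IsBaseChange.comp hf₁.isBaseChange hBC1
  let f₂ : N →ₗ[B] (Fin (2 * m) → B') := hf.isBaseChange.lift k
  have hf₂k : ∀ v, f₂ (f v) = k v := fun v => hf.isBaseChange.lift_eq k v
  have hf₂ : IsBaseChange B' f₂ := by
    refine IsBaseChange.of_comp hf.isBaseChange ?_
    have : (f₂ : N →ₗ[A] _) ∘ₗ f = k := LinearMap.ext hf₂k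
    rw [this]
    exact hk
  have hf₂BC : IsBC B' P' (QuadGrp.splitForm B' (2 * m)) f₂ := by
    refine ⟨hf₂, compat_of_image hf.isBaseChange fun v => ?_⟩
    rw [hf₂k, hf.compat]
    change QuadGrp.splitForm B' (2 * m) (coordMap A' B' (2 * m) (f₁ v)) = _
    rw [(isBC_split A' B' (2 * m)).compat, hf₁.compat, ← IsScalarTower.algebraMap_apply, ← IsScalarTower.algebraMap_apply]
  have hff : Module.FaithfullyFlat B B' := inferInstance
  obtain ⟨δ₂, hδ₂, hδg₂⟩ := Dickson.exists_dickson (SplitForm.matClSplit B' m) hm _ (bcEquiv_mem hf₂BC hg')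
  obtain ⟨e₂, he₂, heδ₂, hiff⟩ := exists_dickson_of_isBC hf₂BC (SplitForm.matClSplit B' m) hm g' hg' _
    (bcEquiv_mem hf₂BC hg') (bcEquiv_apply hf₂BC.isBaseChange g') hδ₂ hδg₂
  have hδ : algebraMap A' B' δ₁ = δ₂ := by
    refine delta_eq hm _ _ _ _ (fun x => ?_) hδg₁ hδg₂
    induction x using hf₁.isBaseChange.inductionOn with
    | zero => rw [map_zero, map_zero, map_zero, map_zero]
    | tmul v =>
      rw [bcEquiv_apply]
      have h1 : coordMap A' B' (2 * m) (f₁ v) = f₂ (f v) := (hf₂k v).symm
      have h2 : coordMap A' B' (2 * m) (f₁ (g v)) = f₂ (f (g v)) := (hf₂k (g v)).symm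
      rw [h1, h2, bcEquiv_apply, hgg]
    | smul a y hy =>
      have hs : ∀ (c : A') (x : Fin (2 * m) → B'), c • x = algebraMap A' B' c • x := fun c x =>
        (algebraMap_smul B' c x).symm
      rw [map_smul (coordMap A' B' (2 * m)), hs, map_smul, hy, ← hs, map_smul (bcEquiv hf₁.isBaseChange g),
        map_smul (coordMap A' B' (2 * m))]
    | add y z hy hz => rw [map_add, map_add, map_add, map_add, hy, hz]
  have he₂e : e₂ = algebraMap A B e := by
    apply FaithfulSMul.algebraMap_injective B B'
    rw [heδ₂, ← hδ, ← heδ, ← IsScalarTower.algebraMap_apply, ← IsScalarTower.algebraMap_apply]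
  rw [hiff, he₂e]

end Main

end K444.DFunc
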