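import Groth.Agent.QuadGrp.K444.Tan
import Groth.Agent.QuadGrp.K917.Reg
import Mathlib.Data.Sym.Card

/-!
# The dimension of the tangent space at the identity
-/

set_option autoImplicit false
universe u v

open TensorProduct Matrix QuadGrp

namespace K444.Dim

open K916.Coord K916.Bridge K917.Coef K444.Tan K917.Deform

variable {κ : Type u} [Field κ] {n : ℕ}

/-- the twisting map as a linear map -/
noncomputable def twL (b : Sym2 (Fin n) → κ) : Matrix (Fin n) (Fin n) κ →ₗ[κ] (Sym2 (Fin n) → κ) where
  toFun := tw b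
  map_add' := tw_add b
  map_smul' c H := tw_smul c b H

theorem card_sym2 : Fintype.card (Sym2 (Fin n)) = (n + 1).choose 2 := by
  rw [Sym2.card, Fintype.card_fin]

theorem two_mul_choose (n : ℕ) : 2 * (n + 1).choose 2 = n * (n + 1) := by
  rw [Nat.choose_two_right, Nat.add_sub_cancel, mul_comm (n + 1)]
  exact Nat.mul_div_cancel' (Nat.even_mul_succ_self n).two_dvd

theorem finrank_T_false (b : Sym2 (Fin n) → κ) (hb : RegProp b) :
    Module.finrank κ (T false b) + (n + 1).choose 2 = n * n := by
  have h1 : T false b = LinearMap.ker (twL b) := by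
    ext Y
    exact ⟨fun h => h.1, fun h => ⟨h, fun h => absurd h (by decide)⟩⟩
  have h2 : Function.Surjective (twL b) := fun c => by
    obtain ⟨H, hH⟩ := hb c
    exact ⟨H, hH.symm⟩
  have h3 := LinearMap.finrank_range_add_finrank_ker (twL b)
  rw [LinearMap.range_eq_top.2 h2, finrank_top, Module.finrank_pi, card_sym2, Module.finrank_matrix, Module.finrank_self,
    Fintype.card_fin] at h3
  rw [h1]
  omega

theorem finrank_even {m : ℕ} (hm : 1 ≤ m) (b : Sym2 (Fin (2 * m)) → κ) (hb : RegProp b) :
    Module.finrank κ (T false b) = m * (2 * m - 1) := by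
  have h1 := finrank_T_false b hb
  have h2 := two_mul_choose (2 * m)
  obtain ⟨k, rfl⟩ : ∃ k, m = k + 1 := ⟨m - 1, by omega⟩
  have h3 : 2 * (k + 1) - 1 = 2 * k + 1 := by omega
  rw [h3]
  nlinarith

/-- the map `(c, Y) ↦ c b + tw b Y` -/
noncomputable def defL (b : Sym2 (Fin n) → κ) : κ × Matrix (Fin n) (Fin n) κ →ₗ[κ] (Sym2 (Fin n) → κ) :=
  (LinearMap.toSpanSingleton κ _ b).coprod (twL b)

theorem defL_apply (b : Sym2 (Fin n) → κ) (p : κ × Matrix (Fin n) (Fin n) κ) : defL b p = p.1 • b + tw b p.2 := rfl

theorem one_add_pow (e : DualNumber κ) (he : e * e = 0) (k : ℕ) : (1 + e) ^ k = 1 + k * e := by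
  induction k with
  | zero => simp
  | succ k ih =>
    rw [pow_succ, ih]
    push_cast
    linear_combination (k : DualNumber κ) * he

/-- the relation between the trace and the multiplier -/
theorem relation {m : ℕ} (b : Sym2 (Fin (2 * m + 1)) → κ)
    (hb : IsUnit (halfDisc (Pi.basisFun κ (Fin (2 * m + 1))) (LinearEquiv.refl κ κ) (qf b)))
    {c : κ} {Y : Matrix (Fin (2 * m + 1)) (Fin (2 * m + 1)) κ} (h : c • b + tw b Y = 0) :
    2 * Y.trace + (2 * m + 1) * c = 0 := by
  set e : DualNumber κ := DualNumber.eps with he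
  have hee : e * e = 0 := DualNumber.eps_mul_eps
  set ι : κ →+* DualNumber κ := TrivSqZeroExt.inlHom κ κ with hι
  have hodd : Odd (2 * m + 1) := ⟨m, rfl⟩
  have h1 : pull (ι ∘ b) (1 + e • Y.map ι) = (1 + (-(e * ι c))) • (ι ∘ b) := by
    rw [pull_one_add_smul e hee, ← map_tw]
    have h2 : tw b Y = -(c • b) := (neg_eq_of_add_eq_zero_right h).symm
    rw [h2]
    funext t
    simp only [Pi.add_apply, Pi.smul_apply, Function.comp_apply, Pi.neg_apply, smul_eq_mul, map_neg, map_mul]
    ring
  have h2 := K917.Reg.hd_pull hodd (ι ∘ b) (1 + e • Y.map ι)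
  rw [h1, K917.Reg.hd_smul hodd, det_one_add_smul' e hee, one_add_pow (-(e * ι c)) (by linear_combination (ι c * ι c) * hee)] at h2
  have h3 : IsUnit (K917.Reg.hd (ι ∘ b)) := by
    rw [K917.Reg.hd, K917.Cover.map_halfDisc]
    exact hb.map ι
  have h4 := h3.mul_right_cancel h2
  have h5 : (Y.map ι).trace = ι Y.trace := (AddMonoidHom.map_trace ι.toAddMonoidHom Y).symm
  rw [h5] at h4
  apply eps_mul_inl_eq_zero
  rw [map_add, map_mul, map_mul, map_ofNat, map_add, map_mul, map_ofNat, map_natCast, map_one]
  push_cast at h4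
  linear_combination -h4 - (ι Y.trace) ^ 2 * hee

theorem finrank_odd {m : ℕ} (b : Sym2 (Fin (2 * m + 1)) → κ)
    (hb : IsUnit (halfDisc (Pi.basisFun κ (Fin (2 * m + 1))) (LinearEquiv.refl κ κ) (qf b))) :
    Module.finrank κ (T true b) = m * (2 * m + 1) := by
  have hdef : DefProp b := K916.LiftOdd.defProp_of_geomRad b (K917.Cover.geomRad_of_semiregular b hb)
  have hs : Function.Surjective (defL b) := fun c => by
    obtain ⟨ε, H, hH⟩ := hdef c
    exact ⟨(ε, H), hH.symm⟩
  have h3 := LinearMap.finrank_range_add_finrank_ker (defL b)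
  rw [LinearMap.range_eq_top.2 hs, finrank_top, Module.finrank_pi, card_sym2, Module.finrank_prod, Module.finrank_matrix,
    Module.finrank_self, Fintype.card_fin] at h3
  -- the functional
  let lam : LinearMap.ker (defL b) →ₗ[κ] κ :=
    (((Matrix.traceLinearMap (Fin (2 * m + 1)) κ κ).comp (LinearMap.snd κ κ _)) + (m : κ) • LinearMap.fst κ κ _).comp
      (LinearMap.ker (defL b)).subtype
  have hlam : ∀ p : LinearMap.ker (defL b), lam p = (p.1.2).trace + m * p.1.1 := fun p => rfl
  have hlams : Function.Surjective lam := by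
    have h1 : ((-2 : κ), (1 : Matrix (Fin (2 * m + 1)) (Fin (2 * m + 1)) κ)) ∈ LinearMap.ker (defL b) := by
      rw [LinearMap.mem_ker, defL_apply, qf_ext_iff]
      intro x
      rw [qf_add, QuadraticMap.add_apply, qf_smul, QuadraticMap.smul_apply, qf_tw, Matrix.one_mulVec, qf_zero,
        QuadraticMap.polar_self, QuadraticMap.zero_apply, smul_eq_mul, two_smul]
      ring
    refine LinearMap.surjective_of_ne_zero fun h => ?_
    have h2 := DFunLike.congr_fun h ⟨_, h1⟩
    rw [hlam] at h2
    simp only [Matrix.trace_one, Fintype.card_fin, LinearMap.zero_apply] at h2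
    push_cast at h2
    exact one_ne_zero (α := κ) (by linear_combination h2)
  have h4 := LinearMap.finrank_range_add_finrank_ker lam
  rw [LinearMap.range_eq_top.2 hlams, finrank_top, Module.finrank_self] at h4
  have e : T true b ≃ₗ[κ] LinearMap.ker lam :=
    { toFun := fun Y => ⟨⟨(0, Y.1), by
          rw [LinearMap.mem_ker, defL_apply, zero_smul, zero_add]
          exact Y.2.1⟩, by
          rw [LinearMap.mem_ker, hlam]
          simp only [mul_zero, add_zero]
          exact Y.2.2 rfl⟩
      map_add' := fun Y Y' => by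
        apply Subtype.ext; apply Subtype.ext
        exact Prod.ext (add_zero (0 : κ)).symm rfl
      map_smul' := fun c Y => by
        apply Subtype.ext; apply Subtype.ext
        exact Prod.ext (mul_zero c).symm rfl
      invFun := fun p => ⟨p.1.1.2, by
        have h5 := p.2
        rw [LinearMap.mem_ker, hlam] at h5
        have h6 := p.1.2
        rw [LinearMap.mem_ker, defL_apply] at h6
        have h7 := relation b hb h6
        have h8 : p.1.1.1 = 0 := by linear_combination h7 - 2 * h5
        rw [h8, zero_smul, zero_add] at h6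
        refine ⟨h6, fun _ => ?_⟩
        rw [h8, mul_zero, add_zero] at h5
        exact h5⟩
      left_inv := fun Y => rfl
      right_inv := fun p => by
        have h5 := p.2
        rw [LinearMap.mem_ker, hlam] at h5
        have h6 := p.1.2
        rw [LinearMap.mem_ker, defL_apply] at h6
        have h7 := relation b hb h6
        have h8 : p.1.1.1 = 0 := by linear_combination h7 - 2 * h5
        apply Subtype.ext; apply Subtype.ext
        exact Prod.ext h8.symm rfl }
  rw [e.finrank_eq]
  have h5 := two_mul_choose (2 * m + 1)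
  nlinarith

end K444.Dim
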