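import Groth.Agent.QuadGrp.K444.Odd
import Groth.Agent.QuadGrp.K916.RepC
import Groth.Agent.QuadGrp.K917.Centralizer

/-!
# From the coordinate algebra to the representing scheme
-/

set_option autoImplicit false
universe u v

open QuadGrp TensorProduct CategoryTheory AlgebraicGeometry

namespace K444.Fin

open K916.RepC

variable {R : Type u} [CommRing R] {M : Type u} [AddCommGroup M] [Module R M]

/-- relative dimension and connected fibres of a scheme represented by a universal algebra -/
theorem concl {S : ∀ (A : Type u) [CommRing A] [Algebra R A], Subgroup ((A ⊗[R] M) ≃ₗ[A] (A ⊗[R] M))}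
    {G : Over (Spec (CommRingCat.of R))} [GrpObj G] (D : LinRep R M S G)
    (C : Type u) [CommRing C] [Algebra R C] (γ : ↥(S C)) (hγ : IsUniv S C γ) (N : ℕ)
    (h1 : SmoothOfRelativeDimension N (Spec.map (CommRingCat.ofHom (algebraMap R C))))
    (h2 : ∀ (K : Type u) [Field K] [IsAlgClosed K] [Algebra R K], ConnectedSpace (PrimeSpectrum (K ⊗[R] C))) :
    SmoothOfRelativeDimension N G.hom ∧ ∀ s : ↥(Spec (CommRingCat.of R)), ConnectedSpace ↥(G.hom.fiber s) := by
  obtain ⟨i⟩ := exists_iso D C γ hγ
  have e1 : i.inv.left ≫ (specOver R C).hom = G.hom := Over.w i.inv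
  have e2 : i.hom.left ≫ G.hom = (specOver R C).hom := Over.w i.hom
  have i1 : IsIso i.hom.left := inferInstanceAs (IsIso ((Over.forget _).map i.hom))
  have i2 : IsIso i.inv.left := inferInstanceAs (IsIso ((Over.forget _).map i.inv))
  constructor
  · rw [← e1]
    have h3 : SmoothOfRelativeDimension N (specOver R C).hom := h1
    have h4 : SmoothOfRelativeDimension (0 + N) (i.inv.left ≫ (specOver R C).hom) := inferInstance
    rwa [zero_add] at h4
  · exact fun s => K444.ConnFib.connectedSpace_fiber_of_iso (specOver R C).hom G.hom i.inv.left e1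
      (fun K _ _ σ => K444.ConnFib.connectedSpace_pullback_spec h2 K σ) s

theorem sorth_eq_of_odd {m : ℕ} (Q : QuadraticForm R (Fin (2 * m + 1) → R)) (A : Type u) [CommRing A] [Algebra R A] :
    sorth Q A = sorth' Q A := by
  ext g
  rcases subsingleton_or_nontrivial A with hA | hA
  · have hs : Subsingleton (A ⊗[R] (Fin (2 * m + 1) → R)) := Module.subsingleton A _
    have hg : g = 1 := by ext x; exact Subsingleton.elim _ _
    rw [hg]
    exact ⟨fun _ => Subgroup.one_mem _, fun _ => Subgroup.one_mem _⟩
  · have hR : Nontrivial R := (algebraMap R A).domain_nontrivial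
    rw [K917.Centralizer.mem_sorth'_iff, sorth, SO, if_neg (by
      rw [Module.finrank_baseChange, Module.finrank_fin_fun, Nat.not_even_iff_odd]
      exact ⟨m, rfl⟩), SO', Subgroup.mem_inf, mem_O, MonoidHom.mem_ker, ← LinearEquiv.coe_det, Units.val_eq_one]

end K444.Fin
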