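import Groth.Agent.QuadGrp.K444.DFunc
import Groth.Agent.QuadGrp.K444.Fin
import Groth.Agent.QuadGrp.K916.LiftEven

/-!
# The special orthogonal group in even rank
-/

set_option autoImplicit false
universe u v

open Matrix QuadGrp QuadraticMap TensorProduct CategoryTheory AlgebraicGeometry

namespace K444.Even

open K916.Coord K916.Bridge K917.Coef K444.Tan K444.CD K918.Cliff K444.Path K444.Idem K916.BC K916.FamBC

variable {R : Type u} [CommRing R] {m : ℕ} (hm : m ≠ 0) (a : Sym2 (Fin (2 * m)) → R) (ha : IsRegular (qf a))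

theorem regular_map (ha : IsRegular (qf a)) {A : Type u} [CommRing A] (φ : R →+* A) : IsRegular (qf (φ ∘ a)) := by
  rw [K917.Base.isRegular_iff (Pi.basisFun A (Fin (2 * m))), K917.Cover.map_disc]
  exact ((K917.Base.isRegular_iff (Pi.basisFun R (Fin (2 * m))) _).1 ha).map φ

/-- the universal isometry -/
noncomputable def g0 : (Fin (2 * m) → Alg (cm a) false) ≃ₗ[Alg (cm a) false] (Fin (2 * m) → Alg (cm a) false) :=
  lin (gen (cm a) false) (geni (cm a) false) (cond_gen (cm a) false).mul_inv (cond_gen (cm a) false).inv_mul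

theorem g0_mem : g0 a ∈ O (qf (algebraMap R (Alg (cm a) false) ∘ a)) := by
  refine lin_mem_O _ _ ?_
  rw [cf_qf, ← cm_map]
  exact (cond_gen (cm a) false).iso

theorem exists_delta (ha : IsRegular (qf a)) (hm : m ≠ 0) :
    ∃ e : Alg (cm a) false, IsIdempotentElem e ∧ ∀ (B : Type u) [CommRing B] [Algebra (Alg (cm a) false) B] (N : Type u)
      [AddCommGroup N] [Module (Alg (cm a) false) N]
      [Module B N] [IsScalarTower (Alg (cm a) false) B N] (P' : QuadraticForm B N)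
      (f : (Fin (2 * m) → Alg (cm a) false) →ₗ[Alg (cm a) false] N), IsBC B (qf (algebraMap R (Alg (cm a) false) ∘ a)) P' f →
      ∀ (g' : N ≃ₗ[B] N) (hg' : g' ∈ QuadGrp.O P'), (∀ v, g' (f v) = f (g0 a v)) →
      (QuadGrp.IsDicksonTrivial P' g' hg' ↔ algebraMap (Alg (cm a) false) B e = 0) :=
  K444.DFunc.exists_univ hm (Pi.basisFun _ _) _ (regular_map a ha _) (g0 a) (g0_mem a)

/-- the universal Dickson invariant -/
noncomputable def delta : Alg (cm a) false := (exists_delta a ha hm).choose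

theorem delta_idem : IsIdempotentElem (delta hm a ha) := (exists_delta a ha hm).choose_spec.1

/-- the value of the universal Dickson invariant -/
theorem key {A : Type u} [CommRing A] [Algebra R A] (φ₀ : Alg (cm a) false →ₐ[R] A) {N : Type u} [AddCommGroup N] [Module A N]
    (P' : QuadraticForm A N) (j : N ≃ₗ[A] (Fin (2 * m) → A)) (hP' : ∀ x, P' x = fm a A (j x)) (s : N ≃ₗ[A] N)
    (hs : s ∈ O P') (hmat : ∀ x, j (s x) = ((gen (cm a) false).map φ₀) *ᵥ (j x)) :
    IsDicksonTrivial P' s hs ↔ φ₀ (delta hm a ha) = 0 := by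
  let _ : Algebra (Alg (cm a) false) A := φ₀.toRingHom.toAlgebra
  let _ : Module (Alg (cm a) false) N := Module.compHom N φ₀.toRingHom
  have hst : IsScalarTower (Alg (cm a) false) A N := ⟨fun x y z => by
    rw [Algebra.smul_def, mul_smul]
    rfl⟩
  let f : (Fin (2 * m) → Alg (cm a) false) →ₗ[Alg (cm a) false] N :=
    (j.symm.toLinearMap.restrictScalars (Alg (cm a) false)) ∘ₗ coordMap (Alg (cm a) false) A (2 * m)
  have hf : IsBC A (qf (algebraMap R (Alg (cm a) false) ∘ a)) P' f := by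
    refine ⟨IsBaseChange.comp (isBaseChange_coordMap (Alg (cm a) false) A (2 * m)) (IsBaseChange.ofEquiv j.symm), fun v => ?_⟩
    have h1 := map_qf φ₀.toRingHom (algebraMap R (Alg (cm a) false) ∘ a) v
    have h2 : φ₀.toRingHom ∘ (algebraMap R (Alg (cm a) false) ∘ a) = algebraMap R A ∘ a := by
      funext t
      exact φ₀.commutes _
    rw [h2] at h1
    rw [hP']
    change fm a A (j (j.symm (coordMap (Alg (cm a) false) A (2 * m) v))) = _
    rw [LinearEquiv.apply_symm_apply]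
    exact h1.symm
  refine (exists_delta a ha hm).choose_spec.2 A N P' f hf s hs fun v => ?_
  apply j.injective
  rw [hmat]
  change ((gen (cm a) false).map φ₀) *ᵥ (j (j.symm (coordMap (Alg (cm a) false) A (2 * m) v))) =
    j (j.symm (coordMap (Alg (cm a) false) A (2 * m) (g0 a v)))
  rw [LinearEquiv.apply_symm_apply, LinearEquiv.apply_symm_apply]
  funext i
  change (∑ k, φ₀ (gen (cm a) false i k) * φ₀ (v k)) = φ₀ (∑ k, gen (cm a) false i k * v k)
  rw [map_sum]
  exact Finset.sum_congr rfl fun k _ => (map_mul φ₀ _ _).symm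

/-- the coordinate algebra of the special orthogonal group -/
abbrev Cs : Type u := Localization.Away (1 - delta hm a ha)

/-- the restriction map -/
noncomputable def pi₀ : Alg (cm a) false →ₐ[R] Cs hm a ha := IsScalarTower.toAlgHom R (Alg (cm a) false) (Cs hm a ha)

theorem pi₀_delta : pi₀ hm a ha (delta hm a ha) = 0 := by
  have h1 : pi₀ hm a ha (1 - delta hm a ha) * pi₀ hm a ha (delta hm a ha) = 0 := by
    rw [← map_mul, sub_mul, one_mul, (delta_idem hm a ha).eq, sub_self, map_zero]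
  have h2 : IsUnit (pi₀ hm a ha (1 - delta hm a ha)) := IsLocalization.Away.algebraMap_isUnit _
  exact (h2.mul_right_eq_zero).1 h1

theorem epi {A : Type u} [CommRing A] [Algebra R A] (φ ψ : Cs hm a ha →ₐ[R] A)
    (h : φ.comp (pi₀ hm a ha) = ψ.comp (pi₀ hm a ha)) : φ = ψ := by
  have h1 : φ.toRingHom = ψ.toRingHom := by
    apply IsLocalization.ringHom_ext (Submonoid.powers (1 - delta hm a ha))
    exact RingHom.ext fun x => DFunLike.congr_fun h x
  exact AlgHom.ext fun x => DFunLike.congr_fun h1 x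

theorem exists_lift {A : Type u} [CommRing A] [Algebra R A] (φ₀ : Alg (cm a) false →ₐ[R] A)
    (h : φ₀ (delta hm a ha) = 0) : ∃ φ : Cs hm a ha →ₐ[R] A, φ.comp (pi₀ hm a ha) = φ₀ := by
  refine ⟨IsLocalization.liftAlgHom (M := Submonoid.powers (1 - delta hm a ha)) (f := φ₀) ?_, ?_⟩
  · rintro ⟨_, k, rfl⟩
    rw [map_pow, map_sub, map_one, h, sub_zero, one_pow]
    exact isUnit_one
  · ext x
    exact IsLocalization.lift_eq _ x

section Univ

open K916.CoordRep K916.RepC

theorem mem_sorth_iff (A : Type u) [CommRing A] [Algebra R A] (Q : QuadraticForm R (Fin (2 * m) → R))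
    (s : (A ⊗[R] (Fin (2 * m) → R)) ≃ₗ[A] (A ⊗[R] (Fin (2 * m) → R))) :
    s ∈ sorth Q A ↔ ∃ hs : s ∈ O (baseChangeForm A Q), IsDicksonTrivial (baseChangeForm A Q) s hs := by
  rcases subsingleton_or_nontrivial A with hA | hA
  · have hs : Subsingleton (A ⊗[R] (Fin (2 * m) → R)) := Module.subsingleton A _
    have hg : s = 1 := by ext x; exact Subsingleton.elim _ _
    rw [hg]
    exact ⟨fun _ => (SOeven (baseChangeForm A Q)).one_mem, fun _ => Subgroup.one_mem _⟩
  · have hR : Nontrivial R := (algebraMap R A).domain_nontrivial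
    rw [sorth, SO, if_pos (by
      rw [Module.finrank_baseChange, Module.finrank_fin_fun]
      exact even_two_mul m)]
    rfl

variable (Q : QuadraticForm R (Fin (2 * m) → R)) (hQ : IsRegular (qf (cf Q)))

/-- the universal special isometry, as an automorphism -/
noncomputable def uA : (Cs hm (cf Q) hQ ⊗[R] (Fin (2 * m) → R)) ≃ₗ[Cs hm (cf Q) hQ] (Cs hm (cf Q) hQ ⊗[R] (Fin (2 * m) → R)) :=
  auto ((gen (cm (cf Q)) false).map (pi₀ hm (cf Q) hQ)) ((geni (cm (cf Q)) false).map (pi₀ hm (cf Q) hQ))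
    (K444.Odd.cond_pt (pi₀ hm (cf Q) hQ)).mul_inv (K444.Odd.cond_pt (pi₀ hm (cf Q) hQ)).inv_mul

theorem uA_mem : uA hm Q hQ ∈ O (baseChangeForm (Cs hm (cf Q) hQ) Q) := by
  have h := K444.Odd.cond_pt (pi₀ hm (cf Q) hQ)
  rw [← cm_map] at h
  exact auto_mem h

theorem uA_mem_sorth : uA hm Q hQ ∈ sorth Q (Cs hm (cf Q) hQ) := by
  rw [mem_sorth_iff]
  refine ⟨uA_mem hm Q hQ, ?_⟩
  rw [key hm (cf Q) hQ (pi₀ hm (cf Q) hQ) (baseChangeForm (Cs hm (cf Q) hQ) Q) (eA (Cs hm (cf Q) hQ))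
    (fun x => baseChangeForm_eq _ Q x) (uA hm Q hQ) (uA_mem hm Q hQ) (fun x => eA_auto _ _ _ _ x)]
  exact pi₀_delta hm (cf Q) hQ

theorem uA_one_tmul (v : Fin (2 * m) → R) : uA hm Q hQ (1 ⊗ₜ v) =
    LinearMap.rTensor (Fin (2 * m) → R) (pi₀ hm (cf Q) hQ).toLinearMap
      (auto (gen (cm (cf Q)) false) (geni (cm (cf Q)) false) (cond_gen (cm (cf Q)) false).mul_inv
          (cond_gen (cm (cf Q)) false).inv_mul (1 ⊗ₜ v)) := by
  apply (eA (Cs hm (cf Q) hQ)).injective
  rw [uA, eA_auto, eA_rTensor, eA_auto, eA_one_tmul, eA_one_tmul]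
  funext i
  simp only [Matrix.mulVec, dotProduct, Matrix.map_apply, Function.comp_apply, map_sum, map_mul, AlgHom.commutes]

theorem isUniv : IsUniv (fun A _ _ => sorth Q A) (Cs hm (cf Q) hQ) ⟨uA hm Q hQ, uA_mem_sorth hm Q hQ⟩ := by
  intro A _ _ s
  obtain ⟨hs, hD⟩ := (mem_sorth_iff A Q s.1).1 s.2
  obtain ⟨φ₀, hφ₀, huniq⟩ := existsUnique Q false A s.1 hs (fun h => absurd h (by decide))
  have hmat : ∀ x, eA A (s.1 x) = ((gen (cm (cf Q)) false).map φ₀) *ᵥ (eA A x) := by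
    have h1 : (eA (R := R) (n := 2 * m) A).toLinearMap ∘ₗ (s.1 : (A ⊗[R] (Fin (2 * m) → R)) →ₗ[A] (A ⊗[R] (Fin (2 * m) → R))) =
        (Matrix.mulVecLin ((gen (cm (cf Q)) false).map φ₀)) ∘ₗ (eA (R := R) (n := 2 * m) A).toLinearMap := by
      apply AlgebraTensorModule.ext
      intro c v
      have h2 : (c ⊗ₜ[R] v : A ⊗[R] (Fin (2 * m) → R)) = c • ((1 : A) ⊗ₜ[R] v) := by
        rw [smul_tmul', smul_eq_mul, mul_one]
      rw [h2, map_smul, map_smul]
      congr 1
      change eA A (s.1 (1 ⊗ₜ v)) = ((gen (cm (cf Q)) false).map φ₀) *ᵥ (eA A (1 ⊗ₜ v))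
      rw [← hφ₀ v, eA_rTensor, eA_auto, eA_one_tmul, eA_one_tmul]
      funext i
      simp only [Matrix.mulVec, dotProduct, Matrix.map_apply, Function.comp_apply, map_sum, map_mul, AlgHom.commutes]
    exact fun x => DFunLike.congr_fun h1 x
  have hδ : φ₀ (delta hm (cf Q) hQ) = 0 :=
    (key hm (cf Q) hQ φ₀ (baseChangeForm A Q) (eA A) (fun x => baseChangeForm_eq _ Q x) s.1 hs hmat).1 hD
  obtain ⟨φ, hφ⟩ := exists_lift hm (cf Q) hQ φ₀ hδ
  have hcomp : ∀ (ψ : Cs hm (cf Q) hQ →ₐ[R] A) (v : Fin (2 * m) → R),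
      LinearMap.rTensor (Fin (2 * m) → R) ψ.toLinearMap (uA hm Q hQ (1 ⊗ₜ v)) =
      LinearMap.rTensor (Fin (2 * m) → R) (ψ.comp (pi₀ hm (cf Q) hQ)).toLinearMap
        (auto (gen (cm (cf Q)) false) (geni (cm (cf Q)) false) (cond_gen (cm (cf Q)) false).mul_inv
          (cond_gen (cm (cf Q)) false).inv_mul (1 ⊗ₜ v)) := by
    intro ψ v
    rw [uA_one_tmul, ← LinearMap.comp_apply, ← LinearMap.rTensor_comp]
    rfl
  refine ⟨φ, fun v => ?_, fun ψ hψ => ?_⟩
  · change LinearMap.rTensor (Fin (2 * m) → R) φ.toLinearMap (uA hm Q hQ (1 ⊗ₜ v)) = _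
    rw [hcomp, hφ]
    exact hφ₀ v
  · apply epi
    rw [hφ]
    apply huniq
    intro v
    change LinearMap.rTensor (Fin (2 * m) → R) (ψ.comp (pi₀ hm (cf Q) hQ)).toLinearMap _ = _
    rw [← hcomp]
    exact hψ v

end Univ

end K444.Even
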