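import Groth.Agent.QuadGrp.K444.Even

/-!
# The special orthogonal group in even rank: relative dimension and connected fibres
-/

set_option autoImplicit false
universe u v

open Matrix QuadGrp QuadraticMap TensorProduct CategoryTheory AlgebraicGeometry

namespace K444.Even

open K916.Coord K916.Bridge K917.Coef K444.Tan K444.CD K918.Cliff K444.Path K444.Idem

theorem exists_unit_of_gen {K : Type u} [Field K] {V : Type u} [AddCommGroup V] [Module K V] (Q : QuadraticForm K V)
    {b : Bool} {g : V ≃ₗ[K] V} (h : Gen Q b g) : ∃ u : (CliffordAlgebra Q)ˣ,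
      (u : CliffordAlgebra Q) ∈ K918.Cliff.K Q g.toLinearMap ∧
      (b = false → (u : CliffordAlgebra Q) ∈ CliffordAlgebra.evenOdd Q 0) ∧
      (b = true → (u : CliffordAlgebra Q) ∈ CliffordAlgebra.evenOdd Q 1) := by
  induction h with
  | one =>
    refine ⟨1, ?_, fun _ => ?_, fun h => absurd h (by decide)⟩
    · rw [mem_K]
      intro v
      rw [Units.val_one, map_one, mul_one, one_mul]
      rfl
    · rw [Units.val_one]
      exact SetLike.GradedOne.one_mem
  | @mul b g v hv _ ih =>
    obtain ⟨u, hu, h0, h1⟩ := ih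
    have hc : (Q v)⁻¹ * Q v = 1 := inv_mul_cancel₀ hv
    have hvu : IsUnit (CliffordAlgebra.ι Q v) := by
      refine ⟨⟨CliffordAlgebra.ι Q v, algebraMap K _ (Q v)⁻¹ * CliffordAlgebra.ι Q v, ?_, ?_⟩, rfl⟩
      · rw [Algebra.left_comm, CliffordAlgebra.ι_sq_scalar, ← map_mul, hc, map_one]
      · rw [mul_assoc, CliffordAlgebra.ι_sq_scalar, ← map_mul, hc, map_one]
    obtain ⟨r, hr⟩ := hvu
    refine ⟨r * u, ?_, fun hb => ?_, fun hb => ?_⟩
    · have := K_mul (ι_mem_K_reflection v (Q v)⁻¹ hc) hu
      rw [← hr] at this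
      exact this
    · rw [Units.val_mul, hr]
      exact mul11 (CliffordAlgebra.ι_mem_evenOdd_one Q v) (h1 (by cases b <;> simp_all))
    · rw [Units.val_mul, hr]
      exact mul10 (CliffordAlgebra.ι_mem_evenOdd_one Q v) (h0 (by cases b <;> simp_all))

theorem not_mem_of_gen {K : Type u} [Field K] {V : Type u} [AddCommGroup V] [Module K V] {Q : QuadraticForm K V}
    {n : ℕ} (bs : Module.Basis (Fin n) K V) (hQ : Function.Bijective (QuadraticMap.polarBilin Q)) (hn : Even n)
    {g : V ≃ₗ[K] V} (h : Gen Q true g) : g ∉ SOeven Q := by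
  have : Module.Free K V := Module.Free.of_basis bs
  obtain ⟨t, ht0, p, ht, hw⟩ := exists_t bs hQ hn
  obtain ⟨u, hu, _, h1⟩ := exists_unit_of_gen Q h
  exact not_mem_SOeven_of_odd ht ht0 hw g u hu (h1 rfl)

variable {R : Type u} [CommRing R] {m : ℕ} (hm : m ≠ 0) (a : Sym2 (Fin (2 * m)) → R) (ha : IsRegular (qf a))
variable (K : Type u) [Field K] [Algebra R K]

/-- the Dickson value of the point of an isometry -/
theorem key_pt {A : Type u} [CommRing A] [Algebra R A] (g : (Fin (2 * m) → A) ≃ₗ[A] (Fin (2 * m) → A)) (hg : g ∈ O (fm a A)) :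
    IsDicksonTrivial (fm a A) g hg ↔ pt a g hg (delta hm a ha) = 0 := by
  refine key hm a ha (pt a g hg) (fm a A) (LinearEquiv.refl A _) (fun x => rfl) g hg fun x => ?_
  rw [gen_map_pt]
  change g x = mt g *ᵥ x
  rw [K916.Bridge.mt, ← Matrix.toLin'_apply, Matrix.toLin'_toMatrix']
  rfl

theorem hPH : PH a K (pi₀ hm a ha) := by
  intro B _ _ _ _ _ Φ₀ ev ⟨φ, hφ⟩
  have h1 : IsIdempotentElem (Φ₀ (delta hm a ha)) := (delta_idem hm a ha).map Φ₀
  have h2 : ev (Φ₀ (delta hm a ha)) = 0 := by
    have h3 : φ (pi₀ hm a ha (delta hm a ha)) = ev (Φ₀ (delta hm a ha)) := DFunLike.congr_fun hφ _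
    rw [← h3, pi₀_delta, map_zero]
  rcases IsIdempotentElem.iff_eq_zero_or_one.1 h1 with h | h
  · exact exists_lift hm a ha Φ₀ h
  · rw [h, map_one] at h2
    exact absurd h2 one_ne_zero

/-- the identity point -/
theorem exists_one : ∃ φ₁ : Cs hm a ha →ₐ[R] K, φ₁.comp (pi₀ hm a ha) = pt a 1 (O (fm a K)).one_mem := by
  refine exists_lift hm a ha _ ?_
  rw [← key_pt hm a ha 1 (O (fm a K)).one_mem]
  obtain ⟨_, h⟩ := (SOeven (fm a K)).one_mem
  exact h

theorem hEND : END a K (pi₀ hm a ha) := by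
  intro g hg hgen ⟨φ, hφ⟩
  exfalso
  have h1 : pt a g hg (delta hm a ha) = 0 := by
    rw [← hφ, AlgHom.comp_apply, pi₀_delta, map_zero]
  rw [← key_pt hm a ha g hg] at h1
  exact not_mem_of_gen (Pi.basisFun K (Fin (2 * m))) (regular_map a ha (algebraMap R K)) (even_two_mul m) hgen ⟨hg, h1⟩

theorem finitePresentation_Cs : Algebra.FinitePresentation R (Cs hm a ha) := by
  have h1 : Algebra.FinitePresentation R (Alg (cm a) false) := finitePresentation _ _
  have h2 : Algebra.FinitePresentation (Alg (cm a) false) (Cs hm a ha) :=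
    IsLocalization.Away.finitePresentation (1 - delta hm a ha)
  exact Algebra.FinitePresentation.trans R (Alg (cm a) false) (Cs hm a ha)

theorem isUnit_disc {ha : IsRegular (qf a)} :
    IsUnit (disc (Pi.basisFun R (Fin (2 * m))) (LinearEquiv.refl R R) (qf a)) :=
  (K917.Base.isRegular_iff (Pi.basisFun R (Fin (2 * m))) _).1 ha

/-- the coordinate algebra over an algebraically closed field has connected spectrum -/
theorem connectedSpace [IsAlgClosed K] : ConnectedSpace (PrimeSpectrum (K ⊗[R] Cs hm a ha)) := by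
  have hQ : ∀ v, fm a K v = 0 → (∀ w, polar (fm a K) v w = 0) → v = 0 :=
    fun v hv hv' => K917.Cover.geomRad_of_disc a (isUnit_disc (ha := ha) a) K (algebraMap R K) v hv hv'
  obtain ⟨φ₁, hφ₁⟩ := exists_one hm a ha K
  have : Algebra.FinitePresentation R (Cs hm a ha) := finitePresentation_Cs hm a ha
  have hnt : Nontrivial (K ⊗[R] Cs hm a ha) := (F (K := K) φ₁).toRingHom.domain_nontrivial
  exact K444.ConnFib.connectedSpace_primeSpectrum fun e he =>
    eq_zero_or_eq_one (hPH hm a ha K) (epi hm a ha) φ₁ hφ₁ hQ (hEND hm a ha K) he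

include ha hm in
theorem smoothOfRelativeDimension_Alg :
    SmoothOfRelativeDimension (m * (2 * m - 1)) (Spec.map (CommRingCat.ofHom (algebraMap R (Alg (cm a) false)))) := by
  have hdet : IsUnit (cm a + (cm a)ᵀ).det := by
    have := isUnit_det_of_isRegular (qf a) ha
    rwa [cf_qf] at this
  have h1 : Algebra.Smooth R (Alg (cm a) false) := K916.Coord.smooth _ _ (K916.LiftEven.lifts_of_isUnit_det _ hdet)
  refine K444.RelDimAlg.of_finrank _ fun p => ?_
  let _ : Algebra R p.asIdeal.ResidueField :=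
    ((algebraMap (Alg (cm a) false) p.asIdeal.ResidueField).comp (algebraMap R (Alg (cm a) false))).toAlgebra
  have h2' : @IsScalarTower R (Alg (cm a) false) p.asIdeal.ResidueField Algebra.toSMul Algebra.toSMul Algebra.toSMul :=
    IsScalarTower.of_algebraMap_eq' rfl
  have h2 : IsScalarTower R (Alg (cm a) false) p.asIdeal.ResidueField := h2'
  rw [K444.Tan.finrank_eq a false p.asIdeal.ResidueField]
  apply K444.Dim.finrank_even (by omega)
  apply K917.Reg.regProp_of_isUnit
  rw [← K917.Reg.disc_eq, K917.Cover.map_disc]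
  exact (isUnit_disc (ha := ha) a).map _

theorem smoothOfRelativeDimension :
    SmoothOfRelativeDimension (m * (2 * m - 1)) (Spec.map (CommRingCat.ofHom (algebraMap R (Cs hm a ha)))) := by
  have h1 := smoothOfRelativeDimension_Alg hm a ha
  have h2 : IsOpenImmersion (Spec.map (CommRingCat.ofHom (algebraMap (Alg (cm a) false) (Cs hm a ha)))) :=
    inferInstance
  have h3 : Spec.map (CommRingCat.ofHom (algebraMap R (Cs hm a ha))) =
      Spec.map (CommRingCat.ofHom (algebraMap (Alg (cm a) false) (Cs hm a ha))) ≫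
        Spec.map (CommRingCat.ofHom (algebraMap R (Alg (cm a) false))) := by
    rw [← Spec.map_comp, ← CommRingCat.ofHom_comp]
  rw [h3]
  have h4 : SmoothOfRelativeDimension (0 + (m * (2 * m - 1)))
      (Spec.map (CommRingCat.ofHom (algebraMap (Alg (cm a) false) (Cs hm a ha))) ≫
        Spec.map (CommRingCat.ofHom (algebraMap R (Alg (cm a) false)))) := inferInstance
  rwa [zero_add] at h4

end K444.Even
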