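import Groth.Agent.QuadGrp.K444.Path

/-!
# Idempotents of the coordinate algebra over an algebraically closed field
-/

set_option autoImplicit false
universe u v

open Matrix QuadGrp QuadraticMap TensorProduct

namespace K444.Idem

open K916.Coord K916.Bridge K917.Coef K444.Tan K444.CD K918.Cliff K444.Path

variable {R : Type u} [CommRing R] {n : ℕ} (a : Sym2 (Fin n) → R)
variable (K : Type u) [Field K] [Algebra R K]

/-- every point of the coordinate algebra is the point of an isometry -/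
theorem exists_pt (φ : Alg (cm a) false →ₐ[R] K) : ∃ (g : (Fin n → K) ≃ₗ[K] (Fin n → K)) (hg : g ∈ O (fm a K)),
    φ = pt a g hg := by
  have h := (cond_gen (cm a) false).map φ.toRingHom
  have h2 : ((cm a).map (algebraMap R (Alg (cm a) false))).map φ.toRingHom = cm (algebraMap R K ∘ a) := by
    rw [← cm_map, Matrix.map_map]
    congr 1
    funext r
    exact φ.commutes r
  rw [h2] at h
  have hiso : IsIso (cm (cf (fm a K))) ((gen (cm a) false).map φ.toRingHom) := by
    rw [cf_qf]; exact h.iso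
  refine ⟨lin _ _ h.mul_inv h.inv_mul, lin_mem_O h.mul_inv h.inv_mul hiso, ?_⟩
  apply algHom_ext
  rw [gen_map_pt, K916.Bridge.mt, toLinearMap_lin, LinearMap.toMatrix'_toLin']
  rfl

/-- the exceptional hypothesis: an odd product of reflections in `C` only occurs when some reflection is trivial -/
def END {C : Type u} [CommRing C] [Algebra R C] (π : Alg (cm a) false →ₐ[R] C) : Prop :=
  ∀ (g : (Fin n → K) ≃ₗ[K] (Fin n → K)) (hg : g ∈ O (fm a K)), Gen (fm a K) true g →
    (∃ φ : C →ₐ[R] K, φ.comp π = pt a g hg) → ∃ (w : Fin n → K) (hw : fm a K w ≠ 0), tau (fm a K) w hw = 1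

variable {a K}

theorem pt_congr {g h : (Fin n → K) ≃ₗ[K] (Fin n → K)} (hg : g ∈ O (fm a K)) (hh : h ∈ O (fm a K)) (e : g = h) :
    pt a g hg = pt a h hh := by subst e; rfl

section Main

variable {C : Type u} [CommRing C] [Algebra R C] {π : Alg (cm a) false →ₐ[R] C} (hPH : PH a K π)
    (epi : ∀ φ ψ : C →ₐ[R] K, φ.comp π = ψ.comp π → φ = ψ) {e : K ⊗[R] C} (he : IsIdempotentElem e)
    (φ₁ : C →ₐ[R] K) (hφ₁ : φ₁.comp π = pt a 1 (O (fm a K)).one_mem)

include hPH epi he hφ₁

theorem exists_of_gen {b : Bool} {g : (Fin n → K) ≃ₗ[K] (Fin n → K)} (hb : Gen (fm a K) b g) (hg : g ∈ O (fm a K)) :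
    (b = false → ∃ φ : C →ₐ[R] K, φ.comp π = pt a g hg ∧ F φ e = F φ₁ e) ∧
    (b = true → ∀ (w : Fin n → K) (hw : fm a K w ≠ 0), ∃ φ : C →ₐ[R] K,
      φ.comp π = pt a _ (tau_mul_mem a K hg w hw) ∧ F φ e = F φ₁ e) := by
  induction hb with
  | one => exact ⟨fun _ => ⟨φ₁, hφ₁, rfl⟩, fun h => absurd h (by decide)⟩
  | @mul b g v hv hb ih =>
    obtain ⟨ih1, ih2⟩ := ih hb.mem
    cases b with
    | false =>
      refine ⟨fun h => absurd h (by decide), fun _ w hw => ?_⟩
      obtain ⟨φ, hφ, hF⟩ := ih1 rfl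
      obtain ⟨φ', hφ', hF'⟩ := exists_path a K π hPH epi he hg v hv φ (by
        rw [hφ]
        apply pt_congr
        rw [← mul_assoc, tau_mul_self, one_mul]) w hw
      exact ⟨φ', hφ', hF'.trans hF⟩
    | true =>
      refine ⟨fun _ => ?_, fun h => absurd h (by decide)⟩
      exact ih2 rfl v hv

theorem F_eq [IsAlgClosed K] (hQ : ∀ v, fm a K v = 0 → (∀ w, polar (fm a K) v w = 0) → v = 0) (hEND : END a K π)
    (φ : C →ₐ[R] K) : F φ e = F φ₁ e := by
  obtain ⟨g, hg, hgφ⟩ := exists_pt a K (φ.comp π)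
  obtain ⟨b, hb⟩ := exists_gen_of_mem (K := K) n (V := Fin n → K) (Module.finrank_fin_fun K) (fm a K) hQ g hg
  obtain ⟨h1, h2⟩ := exists_of_gen hPH epi he φ₁ hφ₁ hb hg
  cases b with
  | false =>
    obtain ⟨φ', hφ', hF⟩ := h1 rfl
    rw [epi φ φ' (by rw [hgφ, hφ']), hF]
  | true =>
    obtain ⟨w, hw, hw1⟩ := hEND g hg hb ⟨φ, hgφ⟩
    obtain ⟨φ', hφ', hF⟩ := h2 rfl w hw
    rw [epi φ φ' (by rw [hgφ, hφ']; apply pt_congr; rw [hw1, one_mul]), hF]

end Main

/-- a non-zero idempotent of a finitely generated algebra over an algebraically closed field is one at some point -/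
theorem exists_point [IsAlgClosed K] {A : Type u} [CommRing A] [Algebra K A] [Algebra.FiniteType K A] {e : A}
    (he : IsIdempotentElem e) (h0 : e ≠ 0) : ∃ ψ : A →ₐ[K] K, ψ e = 1 := by
  have h1 : ¬ IsUnit (1 - e) := by
    intro hu
    apply h0
    have h2 : (1 - e) * e = (1 - e) * 0 := by
      have : e * e = e := he
      linear_combination -this
    exact hu.mul_left_cancel h2
  obtain ⟨m, hm, hme⟩ := exists_max_ideal_of_mem_nonunits h1
  let _ : Field (A ⧸ m) := Ideal.Quotient.field m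
  have hft : Algebra.FiniteType K (A ⧸ m) := inferInstance
  have hfin : Module.Finite K (A ⧸ m) := finite_of_finite_type_of_isJacobsonRing K (A ⧸ m)
  have hbij : Function.Bijective (algebraMap K (A ⧸ m)) := IsAlgClosed.algebraMap_bijective_of_isIntegral
  let eq : K ≃ₐ[K] (A ⧸ m) := AlgEquiv.ofBijective (Algebra.ofId K (A ⧸ m)) hbij
  refine ⟨eq.symm.toAlgHom.comp (Ideal.Quotient.mkₐ K m), ?_⟩
  have h3 : Ideal.Quotient.mkₐ K m e = 1 := by
    have : Ideal.Quotient.mk m (1 - e) = 0 := Ideal.Quotient.eq_zero_iff_mem.2 hme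
    rw [map_sub, map_one, sub_eq_zero] at this
    exact this.symm
  change eq.symm (Ideal.Quotient.mkₐ K m e) = 1
  rw [h3, map_one]

/-- **the idempotents of `K ⊗ C` are trivial** -/
theorem eq_zero_or_eq_one [IsAlgClosed K] {C : Type u} [CommRing C] [Algebra R C] [Algebra.FiniteType R C]
    {π : Alg (cm a) false →ₐ[R] C} (hPH : PH a K π)
    (epi : ∀ φ ψ : C →ₐ[R] K, φ.comp π = ψ.comp π → φ = ψ) (φ₁ : C →ₐ[R] K)
    (hφ₁ : φ₁.comp π = pt a 1 (O (fm a K)).one_mem)
    (hQ : ∀ v, fm a K v = 0 → (∀ w, polar (fm a K) v w = 0) → v = 0) (hEND : END a K π) {e : K ⊗[R] C}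
    (he : IsIdempotentElem e) : e = 0 ∨ e = 1 := by
  have key : ∀ ψ : K ⊗[R] C →ₐ[K] K, ψ e = F φ₁ e := by
    intro ψ
    have h1 : ψ = F ((ψ.restrictScalars R).comp Algebra.TensorProduct.includeRight) := by
      apply Algebra.TensorProduct.ext'
      intro k c
      rw [F, Algebra.TensorProduct.lift_tmul]
      have : (k ⊗ₜ[R] c : K ⊗[R] C) = k • (1 ⊗ₜ c) := by rw [smul_tmul', smul_eq_mul, mul_one]
      rw [this, map_smul, smul_eq_mul]
      rfl
    rw [h1]
    exact F_eq hPH epi he φ₁ hφ₁ hQ hEND _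
  have hi : IsIdempotentElem (F φ₁ e) := he.map (F (K := K) φ₁)
  rcases IsIdempotentElem.iff_eq_zero_or_one.1 hi with h | h
  · left
    by_contra h0
    obtain ⟨ψ, hψ⟩ := exists_point (K := K) he h0
    rw [key, h] at hψ
    exact zero_ne_one hψ
  · right
    by_contra h0
    obtain ⟨ψ, hψ⟩ := exists_point (K := K) he.one_sub (fun h1 => h0 (sub_eq_zero.1 h1).symm)
    rw [map_sub, map_one, key, h, sub_self] at hψ
    exact zero_ne_one hψ

end K444.Idem
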