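import Mathlib.AlgebraicGeometry.Morphisms.Smooth
import Mathlib.RingTheory.Smooth.StandardSmoothCotangent
import Mathlib.RingTheory.Smooth.StandardSmoothOfFree
import Mathlib.RingTheory.Etale.Kaehler
import Mathlib.LinearAlgebra.Dual.Lemmas

/-!
# The relative dimension of a smooth algebra from its tangent spaces
-/

set_option autoImplicit false
universe u

open AlgebraicGeometry TensorProduct KaehlerDifferential CategoryTheory

namespace K444.RelDimAlg

variable {R C : Type u} [CommRing R] [CommRing C] [Algebra R C]

theorem finrank_eq (κ : Type u) [Field κ] [Algebra C κ] (f : C) (n : ℕ)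
    [Algebra (Localization.Away f) κ] [IsScalarTower C (Localization.Away f) κ]
    [Algebra.IsStandardSmoothOfRelativeDimension n R (Localization.Away f)] :
    Module.finrank κ (Ω[C⁄R] →ₗ[C] κ) = n := by
  have : Nontrivial (Localization.Away f) := (algebraMap (Localization.Away f) κ).domain_nontrivial
  have hS : Algebra.IsStandardSmooth R (Localization.Away f) :=
    Algebra.IsStandardSmoothOfRelativeDimension.isStandardSmooth n
  have hfree : Module.Free (Localization.Away f) Ω[(Localization.Away f)⁄R] := inferInstance
  have hfin : Module.Finite (Localization.Away f) Ω[(Localization.Away f)⁄R] := inferInstance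
  have : Algebra.FormallyEtale C (Localization.Away f) :=
    Algebra.FormallyEtale.of_isLocalization (Submonoid.powers f)
  have e := tensorKaehlerEquivOfFormallyEtale R C (Localization.Away f)
  have e2 : κ ⊗[C] Ω[C⁄R] ≃ₗ[κ] κ ⊗[Localization.Away f] Ω[(Localization.Away f)⁄R] :=
    (AlgebraTensorModule.cancelBaseChange C (Localization.Away f) κ κ Ω[C⁄R]).symm ≪≫ₗ
      (e.baseChange (Localization.Away f) κ _ _)
  have e3 : (Ω[C⁄R] →ₗ[C] κ) ≃ₗ[κ] (κ ⊗[C] Ω[C⁄R] →ₗ[κ] κ) := LinearMap.liftBaseChangeEquiv κ
  rw [e3.finrank_eq]
  change Module.finrank κ (Module.Dual κ (κ ⊗[C] Ω[C⁄R])) = n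
  rw [Subspace.dual_finrank_eq, e2.finrank_eq, Module.finrank_baseChange,
    Module.finrank_eq_of_rank_eq
      (Algebra.IsStandardSmoothOfRelativeDimension.rank_kaehlerDifferential (R := R) (S := Localization.Away f) n)]

theorem exists_relativeDimension (A B : Type u) [CommRing A] [CommRing B] [Algebra A B]
    [h : Algebra.IsStandardSmooth A B] : ∃ n, Algebra.IsStandardSmoothOfRelativeDimension n A B := by
  obtain ⟨_, _, _, _, ⟨P⟩⟩ := h
  exact ⟨P.dimension, ⟨_, _, _, ‹_›, P, rfl⟩⟩

/-- A smooth algebra all of whose tangent spaces have dimension `N` is smooth of relative dimension `N`. -/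
theorem of_finrank [Algebra.Smooth R C] (N : ℕ)
    (h : ∀ p : PrimeSpectrum C, Module.finrank p.asIdeal.ResidueField (Ω[C⁄R] →ₗ[C] p.asIdeal.ResidueField) = N) :
    SmoothOfRelativeDimension N (Spec.map (CommRingCat.ofHom (algebraMap R C))) := by
  rw [HasRingHomProperty.Spec_iff (P := @SmoothOfRelativeDimension N), CommRingCat.hom_ofHom]
  refine ⟨{f | Algebra.IsStandardSmoothOfRelativeDimension N R (Localization.Away f)}, ?_, ?_⟩
  · by_contra hne
    obtain ⟨m, hm, hle⟩ := Ideal.exists_le_maximal _ hne
    let p : PrimeSpectrum C := ⟨m, hm.isPrime⟩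
    have hsm : Algebra.IsSmoothAt R p.asIdeal := inferInstance
    obtain ⟨f, hf, hstd⟩ := Algebra.IsSmoothAt.exists_notMem_isStandardSmooth R p.asIdeal
    obtain ⟨n, hn⟩ := exists_relativeDimension R (Localization.Away f)
    have hu : IsUnit (algebraMap C p.asIdeal.ResidueField f) := by
      rw [isUnit_iff_ne_zero]
      intro h0
      exact hf (by rwa [Ideal.algebraMap_residueField_eq_zero] at h0)
    let _ : Algebra (Localization.Away f) p.asIdeal.ResidueField := (IsLocalization.Away.lift f hu).toAlgebra
    have : IsScalarTower C (Localization.Away f) p.asIdeal.ResidueField :=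
      .of_algebraMap_eq fun x => (IsLocalization.Away.lift_eq f hu x).symm
    have h1 := finrank_eq (R := R) p.asIdeal.ResidueField f n
    rw [h p] at h1
    subst h1
    exact hf (hle (Ideal.subset_span hn))
  · intro f hf
    change Algebra.IsStandardSmoothOfRelativeDimension N R (Localization.Away f) at hf
    have : ((algebraMap C (Localization.Away f)).comp (algebraMap R C)) = algebraMap R (Localization.Away f) :=
      (IsScalarTower.algebraMap_eq R C _).symm
    rw [this, RingHom.isStandardSmoothOfRelativeDimension_algebraMap]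
    exact hf

end K444.RelDimAlg
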