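import Groth.Agent.QuadGrp.K444.Idem
import Groth.Agent.QuadGrp.K444.Dim
import Groth.Agent.QuadGrp.K444.RelDimAlg
import Groth.Agent.QuadGrp.K444.ConnFib
import Groth.Agent.QuadGrp.K916.CoordRep
import Mathlib.LinearAlgebra.Matrix.SchurComplement
import Mathlib.LinearAlgebra.Matrix.ToLinearEquiv

/-!
# The special orthogonal group in odd rank: relative dimension and connected fibres
-/

set_option autoImplicit false
universe u v

open Matrix QuadGrp QuadraticMap TensorProduct CategoryTheory AlgebraicGeometry KaehlerDifferential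

namespace K444.Odd

open K916.Coord K916.Bridge K917.Coef K444.Tan K444.CD K918.Cliff K444.Path K444.Idem

variable {R : Type u} [CommRing R] {m : ℕ} (a : Sym2 (Fin (2 * m + 1)) → R)

/-- forgetting that the determinant is one -/
noncomputable def pi₁ {n : ℕ} (a : Sym2 (Fin n) → R) : Alg (cm a) false →ₐ[R] Alg (cm a) true :=
  K916.Coord.lift (g := gen (cm a) true) (g' := geni (cm a) true)
    ⟨(cond_gen (cm a) true).mul_inv, (cond_gen (cm a) true).inv_mul, (cond_gen (cm a) true).iso, fun h => absurd h (by decide)⟩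

theorem gen_map_pi₁ {n : ℕ} (a : Sym2 (Fin n) → R) : (gen (cm a) false).map (pi₁ a) = gen (cm a) true := gen_map_lift _

theorem epi {n : ℕ} (a : Sym2 (Fin n) → R) {A : Type u} [CommRing A] [Algebra R A] (φ ψ : Alg (cm a) true →ₐ[R] A)
    (h : φ.comp (pi₁ a) = ψ.comp (pi₁ a)) : φ = ψ := by
  apply algHom_ext
  rw [← gen_map_pi₁, Matrix.map_map, Matrix.map_map]
  ext i j
  exact DFunLike.congr_fun h _

theorem det_sq (ha : IsUnit (halfDisc (Pi.basisFun R (Fin (2 * m + 1))) (LinearEquiv.refl R R) (qf a)))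
    {B : Type u} [CommRing B] [Algebra R B] {g : Matrix (Fin (2 * m + 1)) (Fin (2 * m + 1)) B}
    (hg : pull (algebraMap R B ∘ a) g = algebraMap R B ∘ a) : g.det ^ 2 = 1 := by
  have h := K917.Reg.hd_pull ⟨m, rfl⟩ (algebraMap R B ∘ a) g
  rw [hg] at h
  have hu : IsUnit (K917.Reg.hd (algebraMap R B ∘ a)) := by
    rw [K917.Reg.hd, K917.Cover.map_halfDisc]
    exact ha.map _
  exact hu.mul_right_cancel (by rw [one_mul, ← h])

theorem cond_pt {n : ℕ} {a : Sym2 (Fin n) → R} {B : Type u} [CommRing B] [Algebra R B] {s : Bool} (φ : Alg (cm a) s →ₐ[R] B) :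
    Cond (cm (algebraMap R B ∘ a)) s ((gen (cm a) s).map φ) ((geni (cm a) s).map φ) := by
  have h := (cond_gen (cm a) s).map φ.toRingHom
  have h2 : ((cm a).map (algebraMap R (Alg (cm a) s))).map φ.toRingHom = cm (algebraMap R B ∘ a) := by
    rw [← cm_map, Matrix.map_map]
    congr 1
    funext r
    exact φ.commutes r
  rw [h2] at h
  exact h

variable (K : Type u) [Field K] [Algebra R K]

theorem hPH (ha : IsUnit (halfDisc (Pi.basisFun R (Fin (2 * m + 1))) (LinearEquiv.refl R R) (qf a))) :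
    PH a K (pi₁ a) := by
  intro B _ _ _ _ _ Φ₀ ev ⟨φ, hφ⟩
  have h1 := cond_pt Φ₀
  have h2 := det_sq a ha ((isIso_cm_iff_pull _ _).1 h1.iso)
  have h3 : ev ((gen (cm a) false).map Φ₀).det = 1 := by
    have h4 := RingHom.map_det ev.toRingHom ((gen (cm a) false).map Φ₀)
    have h5 : ev.toRingHom.mapMatrix ((gen (cm a) false).map Φ₀) = (gen (cm a) true).map φ := by
      rw [← gen_map_pi₁]
      ext i j
      exact (DFunLike.congr_fun hφ _).symm
    rw [h5, (cond_pt φ).det rfl] at h4
    exact h4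
  have h6 : ((gen (cm a) false).map Φ₀).det = 1 := by
    rcases mul_self_eq_one_iff.1 ((pow_two _).symm.trans h2) with h | h
    · exact h
    · rw [h, map_neg, map_one] at h3
      rw [h]
      have h7 := congrArg (algebraMap K B) h3
      rwa [map_neg, map_one] at h7
  have h8 : Cond ((cm a).map (algebraMap R B)) true ((gen (cm a) false).map Φ₀) ((geni (cm a) false).map Φ₀) := by
    rw [cm_map]
    exact ⟨h1.mul_inv, h1.inv_mul, h1.iso, fun _ => h6⟩
  refine ⟨K916.Coord.lift h8, ?_⟩
  apply algHom_ext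
  have h9 : (gen (cm a) false).map ((K916.Coord.lift h8).comp (pi₁ a)) = ((gen (cm a) false).map (pi₁ a)).map (K916.Coord.lift h8) := by
    rw [Matrix.map_map]; rfl
  rw [h9, gen_map_pi₁, gen_map_lift]

/-- the identity point -/
theorem exists_one : ∃ φ₁ : Alg (cm a) true →ₐ[R] K, φ₁.comp (pi₁ a) = pt a 1 (O (fm a K)).one_mem := by
  have h : Cond ((cm a).map (algebraMap R K)) true 1 1 := by
    rw [cm_map]
    refine ⟨Matrix.mul_one _, Matrix.mul_one _, ?_, fun _ => Matrix.det_one⟩
    rw [isIso_cm_iff_pull, pull_one]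
  refine ⟨K916.Coord.lift h, ?_⟩
  apply algHom_ext
  have h9 : (gen (cm a) false).map ((K916.Coord.lift h).comp (pi₁ a)) = ((gen (cm a) false).map (pi₁ a)).map (K916.Coord.lift h) := by
    rw [Matrix.map_map]; rfl
  rw [h9, gen_map_pi₁, gen_map_lift, gen_map_pt, mt_one]

theorem det_tau {n : ℕ} (b : Sym2 (Fin n) → K) (v : Fin n → K) (hv : qf b v ≠ 0) : (mt (tau (qf b) v hv)).det = -1 := by
  have h1 : mt (tau (qf b) v hv) = 1 + replicateCol Unit (fun i => -((qf b v)⁻¹ * v i)) *
      replicateRow Unit (fun j => polar (qf b) v (Pi.single j 1)) := by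
    ext i j
    rw [tau, mt_reflection, Matrix.add_apply, Matrix.mul_apply]
    simp only [Finset.univ_unique, replicateCol_apply, replicateRow_apply, Finset.sum_const, Finset.card_singleton, one_smul]
    rw [Matrix.one_apply, Pi.single_apply]
    ring
  rw [h1, det_one_add_replicateCol_mul_replicateRow]
  have h2 : (fun j => polar (qf b) v (Pi.single j 1)) ⬝ᵥ (fun i => -((qf b v)⁻¹ * v i)) = -((qf b v)⁻¹ * polar (qf b) v v) := by
    have h3 : v = ∑ i, v i • (Pi.single i 1 : Fin n → K) := by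
      funext j; simp [Finset.sum_apply, Pi.single_apply]
    have h4 : polar (qf b) v v = ∑ i, v i * polar (qf b) v (Pi.single i 1) := by
      conv_lhs => rw [← polarBilin_apply_apply, h3]
      rw [map_sum]
      refine Finset.sum_congr rfl fun i _ => ?_
      rw [← h3, map_smul, smul_eq_mul, polarBilin_apply_apply]
    rw [h4, dotProduct, Finset.mul_sum, ← Finset.sum_neg_distrib]
    refine Finset.sum_congr rfl fun i _ => ?_
    ring
  rw [h2, K917.Split.polar_self']
  field_simp
  ring

theorem det_gen {n : ℕ} (b : Sym2 (Fin n) → K) {s : Bool} {g : (Fin n → K) ≃ₗ[K] (Fin n → K)} (h : Gen (qf b) s g) :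
    (mt g).det = if s then -1 else 1 := by
  induction h with
  | one => rw [mt_one, Matrix.det_one]; simp
  | @mul s g v hv _ ih =>
    rw [mt_mul, Matrix.det_mul, ih, det_tau]
    cases s <;> simp

theorem hEND (hQ : ∀ v, fm a K v = 0 → (∀ w, polar (fm a K) v w = 0) → v = 0) : END a K (pi₁ a) := by
  intro g hg hgen ⟨φ, hφ⟩
  have h1 : (mt g).det = 1 := by
    have h2 : (gen (cm a) true).map φ = mt g := by
      rw [← gen_map_pi₁, ← gen_map_pt a g hg, ← hφ, Matrix.map_map]
      rfl
    rw [← h2]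
    exact (cond_pt φ).det rfl
  rw [det_gen K _ hgen, if_pos rfl] at h1
  have h2 : (2 : K) = 0 := by linear_combination -h1
  have h3 : (K917.Reg.pmat (algebraMap R K ∘ a)).det = 0 := by
    have h4 : QuadGrp.disc (Pi.basisFun K (Fin (2 * m + 1))) (LinearEquiv.refl K K) (fm a K) =
        2 * QuadGrp.halfDisc (Pi.basisFun K (Fin (2 * m + 1))) (LinearEquiv.refl K K) (fm a K) := by
      rw [QuadGrp.disc, QuadGrp.halfDisc, ← K918.HalfDisc.two_mul_halfDiscUniv ⟨m, rfl⟩, MvPolynomial.eval₂_mul]
      congr 1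
      rw [show (2 : MvPolynomial (Sym2 (Fin (2 * m + 1))) ℤ) = MvPolynomial.C 2 from
        (map_ofNat MvPolynomial.C 2).symm, MvPolynomial.eval₂_C]
      simp
    rw [← K917.Reg.disc_eq, h4, h2, zero_mul]
  obtain ⟨r, hr0, hr⟩ := Matrix.exists_vecMul_eq_zero_iff.2 h3
  have hr' : ∀ w, polar (fm a K) r w = 0 := by
    intro w
    rw [K917.Reg.polar_eq, Matrix.dotProduct_mulVec, hr, zero_dotProduct]
  have hQr : fm a K r ≠ 0 := fun h => hr0 (hQ r h hr')
  refine ⟨r, hQr, ?_⟩
  ext1 x
  rw [tau_apply, hr', zero_mul, zero_smul, sub_zero]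
  rfl

/-- the coordinate algebra over an algebraically closed field has connected spectrum -/
theorem connectedSpace [IsAlgClosed K] (ha : IsUnit (halfDisc (Pi.basisFun R (Fin (2 * m + 1))) (LinearEquiv.refl R R) (qf a))) :
    ConnectedSpace (PrimeSpectrum (K ⊗[R] Alg (cm a) true)) := by
  have hQ : ∀ v, fm a K v = 0 → (∀ w, polar (fm a K) v w = 0) → v = 0 :=
    fun v hv hv' => K917.Cover.geomRad_of_semiregular a ha K (algebraMap R K) v hv hv'
  obtain ⟨φ₁, hφ₁⟩ := exists_one a K
  have : Algebra.FinitePresentation R (Alg (cm a) true) := finitePresentation _ _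
  have hnt : Nontrivial (K ⊗[R] Alg (cm a) true) := (F (K := K) φ₁).toRingHom.domain_nontrivial
  exact K444.ConnFib.connectedSpace_primeSpectrum fun e he =>
    eq_zero_or_eq_one (hPH a K ha) (epi a) φ₁ hφ₁ hQ (hEND a K hQ) he

theorem smoothOfRelativeDimension (ha : IsUnit (halfDisc (Pi.basisFun R (Fin (2 * m + 1))) (LinearEquiv.refl R R) (qf a))) :
    SmoothOfRelativeDimension (m * (2 * m + 1)) (Spec.map (CommRingCat.ofHom (algebraMap R (Alg (cm a) true)))) := by
  have h1 : Algebra.Smooth R (Alg (cm a) true) := K916.Coord.smooth _ _ (K916.LiftOdd.lifts_odd a ha)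
  refine K444.RelDimAlg.of_finrank _ fun p => ?_
  let _ : Algebra R p.asIdeal.ResidueField :=
    ((algebraMap (Alg (cm a) true) p.asIdeal.ResidueField).comp (algebraMap R (Alg (cm a) true))).toAlgebra
  have h2' : @IsScalarTower R (Alg (cm a) true) p.asIdeal.ResidueField Algebra.toSMul Algebra.toSMul Algebra.toSMul :=
    IsScalarTower.of_algebraMap_eq' rfl
  have h2 : IsScalarTower R (Alg (cm a) true) p.asIdeal.ResidueField := h2'
  rw [K444.Tan.finrank_eq a true p.asIdeal.ResidueField]
  apply K444.Dim.finrank_odd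
  rw [K917.Cover.map_halfDisc]
  exact ha.map _

end K444.Odd
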