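import Groth.Agent.QuadGrp.K916.LiftOdd
import Groth.Agent.QuadGrp.K916.LiftEven
import Mathlib.Algebra.DualNumber
import Mathlib.LinearAlgebra.Matrix.Charpoly.Coeff
import Mathlib.RingTheory.Kaehler.Basic

/-!
# The tangent spaces of the orthogonal group and of the naive special orthogonal group
-/

set_option autoImplicit false
universe u v

open TensorProduct KaehlerDifferential Matrix QuadGrp

namespace K444.Tan

open K916.Coord K916.Bridge K917.Coef

section Sq

variable {B : Type v} [CommRing B] {n : ℕ}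

theorem isIso_cm_iff_pull (a : Sym2 (Fin n) → B) (g : Matrix (Fin n) (Fin n) B) : IsIso (cm a) g ↔ pull a g = a := by
  rw [isIso_cm_iff, qf_ext_iff]
  simp only [qf_pull]

theorem pull_one_add_smul (e : B) (he : e * e = 0) (a : Sym2 (Fin n) → B) (Y : Matrix (Fin n) (Fin n) B) :
    pull a (1 + e • Y) = a + e • tw a Y := by
  rw [qf_ext_iff]
  intro x
  rw [qf_pull, qf_add, QuadraticMap.add_apply, qf_smul, QuadraticMap.smul_apply, qf_tw, Matrix.add_mulVec,
    Matrix.one_mulVec, Matrix.smul_mulVec, qf_add_vec, QuadraticMap.map_smul, he, zero_smul, add_zero,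
    QuadraticMap.polar_smul_right]

theorem det_one_add_smul' (e : B) (he : e * e = 0) (Y : Matrix (Fin n) (Fin n) B) :
    (1 + e • Y).det = 1 + e * Y.trace := by
  rw [Matrix.det_one_add_smul, pow_two, he, mul_zero, add_zero, mul_comm]

end Sq

section Main

variable {R : Type u} [CommRing R] {n : ℕ} (a : Sym2 (Fin n) → R) (s : Bool)
variable (κ : Type u) [Field κ] [Algebra R κ] [Algebra (Alg (cm a) s) κ] [IsScalarTower R (Alg (cm a) s) κ]

/-- the tangent space at the identity -/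
def T (s : Bool) {κ : Type u} [Field κ] (b : Sym2 (Fin n) → κ) : Submodule κ (Matrix (Fin n) (Fin n) κ) where
  carrier := {Y | tw b Y = 0 ∧ (s = true → Y.trace = 0)}
  zero_mem' := ⟨tw_zero _, fun _ => Matrix.trace_zero _ _⟩
  add_mem' := by
    rintro Y Y' ⟨h1, h2⟩ ⟨h3, h4⟩
    exact ⟨by rw [tw_add, h1, h3, add_zero], fun hs => by rw [Matrix.trace_add, h2 hs, h4 hs, add_zero]⟩
  smul_mem' := by
    rintro c Y ⟨h1, h2⟩
    exact ⟨by rw [tw_smul, h1, smul_zero], fun hs => by rw [Matrix.trace_smul, h2 hs, smul_zero]⟩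

/-- the value of the universal isometry -/
noncomputable def gb : Matrix (Fin n) (Fin n) κ := (gen (cm a) s).map (algebraMap (Alg (cm a) s) κ)

/-- the value of the inverse -/
noncomputable def gb' : Matrix (Fin n) (Fin n) κ := (geni (cm a) s).map (algebraMap (Alg (cm a) s) κ)

theorem cond_gb : Cond (cm (algebraMap R κ ∘ a)) s (gb a s κ) (gb' a s κ) := by
  have h := (cond_gen (cm a) s).map (algebraMap (Alg (cm a) s) κ)
  have h2 : ((cm a).map (algebraMap R (Alg (cm a) s))).map (algebraMap (Alg (cm a) s) κ) = cm (algebraMap R κ ∘ a) := by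
    rw [cm_map, cm_map, IsScalarTower.algebraMap_eq R (Alg (cm a) s) κ]
    rfl
  rw [h2] at h
  exact h

variable {κ} in
/-- the algebra map to the dual numbers given by a derivation -/
noncomputable def psi (d : Derivation R (Alg (cm a) s) κ) : Alg (cm a) s →ₐ[R] DualNumber κ where
  toFun x := TrivSqZeroExt.inl (algebraMap _ κ x) + TrivSqZeroExt.inr (d x)
  map_one' := by
    ext <;> simp
  map_mul' x y := by
    ext
    · simp only [TrivSqZeroExt.fst_add, TrivSqZeroExt.fst_mul, TrivSqZeroExt.fst_inl, TrivSqZeroExt.fst_inr, map_mul, add_zero]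
    · simp only [TrivSqZeroExt.snd_add, TrivSqZeroExt.snd_mul, TrivSqZeroExt.fst_add, TrivSqZeroExt.fst_inl,
        TrivSqZeroExt.fst_inr, TrivSqZeroExt.snd_inl, TrivSqZeroExt.snd_inr, zero_add, add_zero, Derivation.leibniz,
        Algebra.smul_def, MulOpposite.smul_eq_mul_unop, MulOpposite.unop_op]
      rw [mul_comm (d x)]
      rfl
  map_zero' := by rw [map_zero, map_zero, TrivSqZeroExt.inl_zero, TrivSqZeroExt.inr_zero, add_zero]
  map_add' x y := by
    rw [map_add, map_add, TrivSqZeroExt.inl_add, TrivSqZeroExt.inr_add]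
    abel
  commutes' r := by
    rw [Derivation.map_algebraMap, TrivSqZeroExt.inr_zero, add_zero, ← IsScalarTower.algebraMap_apply]
    rfl

theorem psi_fst (d : Derivation R (Alg (cm a) s) κ) (x : Alg (cm a) s) : (psi a s d x).fst = algebraMap _ κ x := by
  change (TrivSqZeroExt.inl (algebraMap _ κ x) + TrivSqZeroExt.inr (d x) : TrivSqZeroExt κ κ).fst = _
  rw [TrivSqZeroExt.fst_add, TrivSqZeroExt.fst_inl, TrivSqZeroExt.fst_inr, add_zero]

theorem psi_snd (d : Derivation R (Alg (cm a) s) κ) (x : Alg (cm a) s) : (psi a s d x).snd = d x := by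
  change (TrivSqZeroExt.inl (algebraMap _ κ x) + TrivSqZeroExt.inr (d x) : TrivSqZeroExt κ κ).snd = _
  rw [TrivSqZeroExt.snd_add, TrivSqZeroExt.snd_inl, TrivSqZeroExt.snd_inr, zero_add]

/-- the matrix of a tangent vector -/
noncomputable def Phi : (Ω[Alg (cm a) s⁄R] →ₗ[Alg (cm a) s] κ) →ₗ[κ] Matrix (Fin n) (Fin n) κ where
  toFun ℓ := gb' a s κ * Matrix.of fun i j => ℓ (D R (Alg (cm a) s) (gen (cm a) s i j))
  map_add' ℓ ℓ' := by
    rw [← Matrix.mul_add]
    rfl
  map_smul' c ℓ := by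
    rw [RingHom.id_apply, ← Matrix.mul_smul]
    rfl

theorem gen_map_psi (ℓ : Ω[Alg (cm a) s⁄R] →ₗ[Alg (cm a) s] κ) :
    (gen (cm a) s).map (psi a s (ℓ.compDer (D R (Alg (cm a) s)))) =
      (gb a s κ).map (TrivSqZeroExt.inlHom κ κ) *
        (1 + (DualNumber.eps : DualNumber κ) • (Phi a s κ ℓ).map (TrivSqZeroExt.inlHom κ κ)) := by
  have h1 : (Phi a s κ ℓ) = gb' a s κ * Matrix.of fun i j => ℓ (D R (Alg (cm a) s) (gen (cm a) s i j)) := rfl
  rw [Matrix.mul_add, Matrix.mul_one, Matrix.mul_smul, ← Matrix.map_mul, h1, ← Matrix.mul_assoc, (cond_gb a s κ).mul_inv,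
    Matrix.one_mul]
  ext i j
  · rw [Matrix.map_apply, psi_fst, Matrix.add_apply, TrivSqZeroExt.fst_add, Matrix.smul_apply, smul_eq_mul,
      TrivSqZeroExt.fst_mul, DualNumber.fst_eps, zero_mul, add_zero]
    rfl
  · rw [Matrix.map_apply, psi_snd, Matrix.add_apply, TrivSqZeroExt.snd_add, Matrix.smul_apply, smul_eq_mul,
      TrivSqZeroExt.snd_mul, DualNumber.fst_eps, DualNumber.snd_eps, zero_smul, zero_add, Matrix.map_apply, Matrix.map_apply]
    change _ = 0 + MulOpposite.op (ℓ _) • (1 : κ)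
    rw [zero_add, MulOpposite.smul_eq_mul_unop, one_mul]
    rfl

theorem eps_mul_inl_eq_zero {κ : Type u} [Field κ] {x : κ}
    (h : (DualNumber.eps : DualNumber κ) * TrivSqZeroExt.inlHom κ κ x = 0) : x = 0 := by
  have h1 := congrArg TrivSqZeroExt.snd h
  rw [TrivSqZeroExt.snd_mul, DualNumber.fst_eps, DualNumber.snd_eps, zero_smul, zero_add, TrivSqZeroExt.snd_zero] at h1
  change MulOpposite.op x • (1 : κ) = 0 at h1
  rwa [MulOpposite.smul_eq_mul_unop, one_mul] at h1

theorem cond_iff (Y : Matrix (Fin n) (Fin n) κ) :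
    (∃ Z, Cond (cm ((TrivSqZeroExt.inlHom κ κ : κ →+* DualNumber κ) ∘ algebraMap R κ ∘ a)) s
      ((gb a s κ).map (TrivSqZeroExt.inlHom κ κ) *
        (1 + (DualNumber.eps : DualNumber κ) • Y.map (TrivSqZeroExt.inlHom κ κ))) Z) ↔
      Y ∈ T s (algebraMap R κ ∘ a) := by
  set e : DualNumber κ := DualNumber.eps with he
  have hee : e * e = 0 := DualNumber.eps_mul_eps
  set ι : κ →+* DualNumber κ := TrivSqZeroExt.inlHom κ κ with hι
  have hG := (cond_gb a s κ).map ι
  rw [cm_map] at hG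
  have hpG := (isIso_cm_iff_pull _ _).1 hG.iso
  have hp : pull (ι ∘ algebraMap R κ ∘ a) ((gb a s κ).map ι * (1 + e • Y.map ι)) =
      (ι ∘ algebraMap R κ ∘ a) + e • (ι ∘ tw (algebraMap R κ ∘ a) Y) := by
    rw [pull_mul, hpG, pull_one_add_smul e hee, map_tw]
  have hd : s = true → ((gb a s κ).map ι * (1 + e • Y.map ι)).det = 1 + e * ι Y.trace := by
    intro hs
    rw [Matrix.det_mul, hG.det hs, one_mul, det_one_add_smul' e hee]
    congr 2
    exact (AddMonoidHom.map_trace ι.toAddMonoidHom Y).symm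
  constructor
  · rintro ⟨Z, hZ⟩
    constructor
    · have h1 := (isIso_cm_iff_pull _ _).1 hZ.iso
      rw [hp] at h1
      have h2 : e • (ι ∘ tw (algebraMap R κ ∘ a) Y) = 0 := by simpa using h1
      funext t
      exact eps_mul_inl_eq_zero (congrFun h2 t)
    · intro hs
      have h1 := hZ.det hs
      rw [hd hs] at h1
      exact eps_mul_inl_eq_zero (add_eq_left.1 h1)
  · rintro ⟨h1, h2⟩
    refine ⟨(1 - e • Y.map ι) * (gb' a s κ).map ι, ?_, ?_, ?_, ?_⟩
    · have h3 : (1 + e • Y.map ι) * (1 - e • Y.map ι) = 1 := by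
        rw [Matrix.mul_sub, Matrix.mul_one, Matrix.add_mul, Matrix.one_mul, Matrix.smul_mul, Matrix.mul_smul, smul_smul, hee,
          zero_smul, add_zero, add_sub_cancel_right]
      rw [Matrix.mul_assoc, ← Matrix.mul_assoc (1 + e • Y.map ι), h3, Matrix.one_mul, hG.mul_inv]
    · have h3 : (1 - e • Y.map ι) * (1 + e • Y.map ι) = 1 := by
        rw [Matrix.mul_add, Matrix.mul_one, Matrix.sub_mul, Matrix.one_mul, Matrix.smul_mul, Matrix.mul_smul, smul_smul, hee,
          zero_smul, sub_zero, sub_add_cancel]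
      rw [Matrix.mul_assoc, ← Matrix.mul_assoc _ _ (1 + e • Y.map ι), hG.inv_mul, Matrix.one_mul, h3]
    · rw [isIso_cm_iff_pull, hp, h1]
      have h3 : (ι ∘ (0 : Sym2 (Fin n) → κ)) = 0 := by funext t; exact map_zero ι
      rw [h3, smul_zero, add_zero]
    · intro hs
      rw [hd hs, h2 hs, map_zero, mul_zero, add_zero]

theorem cm_map_inl : (cm a).map (algebraMap R (DualNumber κ)) =
    cm ((TrivSqZeroExt.inlHom κ κ : κ →+* DualNumber κ) ∘ algebraMap R κ ∘ a) := by
  rw [cm_map]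
  rfl

theorem Phi_mem (ℓ : Ω[Alg (cm a) s⁄R] →ₗ[Alg (cm a) s] κ) : Phi a s κ ℓ ∈ T s (algebraMap R κ ∘ a) := by
  rw [← cond_iff]
  have h := (cond_gen (cm a) s).map (psi a s (ℓ.compDer (D R (Alg (cm a) s)))).toRingHom
  have h2 : ((cm a).map (algebraMap R (Alg (cm a) s))).map (psi a s (ℓ.compDer (D R (Alg (cm a) s)))).toRingHom =
      cm ((TrivSqZeroExt.inlHom κ κ : κ →+* DualNumber κ) ∘ algebraMap R κ ∘ a) := by
    rw [← cm_map_inl, Matrix.map_map]
    congr 1
    funext r
    exact (psi a s (ℓ.compDer (D R (Alg (cm a) s)))).commutes r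
  rw [h2] at h
  refine ⟨(geni (cm a) s).map (psi a s (ℓ.compDer (D R (Alg (cm a) s)))).toRingHom, ?_⟩
  rw [← gen_map_psi]
  exact h

theorem Phi_injective : Function.Injective (Phi a s κ) := by
  rw [injective_iff_map_eq_zero]
  intro ℓ hℓ
  have h1 := gen_map_psi a s κ ℓ
  have h2 := gen_map_psi a s κ 0
  rw [hℓ] at h1
  rw [map_zero, ← h1] at h2
  have h3 := algHom_ext h2
  have h4 : ℓ.compDer (D R (Alg (cm a) s)) = 0 := by
    ext x
    have h5 := congrArg TrivSqZeroExt.snd (DFunLike.congr_fun h3 x)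
    rw [psi_snd, psi_snd] at h5
    exact h5.symm
  exact (linearMapEquivDerivation R (Alg (cm a) s)).injective (h4.trans (map_zero _).symm)

theorem exists_Phi_eq {Y : Matrix (Fin n) (Fin n) κ} (hY : Y ∈ T s (algebraMap R κ ∘ a)) : ∃ ℓ, Phi a s κ ℓ = Y := by
  rw [← cond_iff] at hY
  obtain ⟨Z, hZ⟩ := hY
  rw [← cm_map_inl] at hZ
  set M := (gb a s κ).map (TrivSqZeroExt.inlHom κ κ) *
        (1 + (DualNumber.eps : DualNumber κ) • Y.map (TrivSqZeroExt.inlHom κ κ)) with hM
  let φ := lift hZ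
  have hφ : (gen (cm a) s).map φ = M := gen_map_lift hZ
  have hMf : ∀ i j, (M i j).fst = gb a s κ i j := by
    intro i j
    rw [hM, Matrix.mul_add, Matrix.mul_one, Matrix.mul_smul, Matrix.add_apply, TrivSqZeroExt.fst_add, Matrix.smul_apply, smul_eq_mul,
      TrivSqZeroExt.fst_mul, DualNumber.fst_eps, zero_mul, add_zero]
    rfl
  have hMs : ∀ i j, (M i j).snd = (gb a s κ * Y) i j := by
    intro i j
    rw [hM, Matrix.mul_add, Matrix.mul_one, Matrix.mul_smul, ← Matrix.map_mul, Matrix.add_apply, TrivSqZeroExt.snd_add, Matrix.smul_apply, smul_eq_mul,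
      TrivSqZeroExt.snd_mul, DualNumber.fst_eps, DualNumber.snd_eps, zero_smul, zero_add, Matrix.map_apply, Matrix.map_apply]
    change 0 + MulOpposite.op ((gb a s κ * Y) i j) • (1 : κ) = _
    rw [zero_add, MulOpposite.smul_eq_mul_unop, one_mul]
    rfl
  have hfst : ∀ x, (φ x).fst = algebraMap _ κ x := by
    have h1 : (TrivSqZeroExt.fstHom R κ κ).comp φ = IsScalarTower.toAlgHom R (Alg (cm a) s) κ := by
      apply algHom_ext
      ext i j
      change (φ (gen (cm a) s i j)).fst = _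
      have : φ (gen (cm a) s i j) = M i j := congrFun (congrFun hφ i) j
      rw [this, hMf]
      rfl
    intro x
    exact DFunLike.congr_fun h1 x
  let d : Derivation R (Alg (cm a) s) κ := Derivation.mk'
    ((TrivSqZeroExt.sndHom κ κ).restrictScalars R ∘ₗ φ.toLinearMap) (by
      intro x y
      change (φ (x * y)).snd = x • (φ y).snd + y • (φ x).snd
      rw [map_mul, TrivSqZeroExt.snd_mul, hfst, hfst, MulOpposite.smul_eq_mul_unop, MulOpposite.unop_op, Algebra.smul_def y,
        Algebra.smul_def x, smul_eq_mul, mul_comm (φ x).snd])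
  refine ⟨d.liftKaehlerDifferential, ?_⟩
  have h1 : Phi a s κ d.liftKaehlerDifferential =
    gb' a s κ * Matrix.of fun i j => d.liftKaehlerDifferential (D R (Alg (cm a) s) (gen (cm a) s i j)) := rfl
  have h2 : (Matrix.of fun i j => d.liftKaehlerDifferential (D R (Alg (cm a) s) (gen (cm a) s i j))) = gb a s κ * Y := by
    ext i j
    rw [Matrix.of_apply, Derivation.liftKaehlerDifferential_comp_D]
    change (φ (gen (cm a) s i j)).snd = _
    have : φ (gen (cm a) s i j) = M i j := congrFun (congrFun hφ i) j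
    rw [this, hMs]
  rw [h1, h2, ← Matrix.mul_assoc, (cond_gb a s κ).inv_mul, Matrix.one_mul]

/-- **the tangent spaces of the orthogonal groups** -/
theorem finrank_eq : Module.finrank κ (Ω[Alg (cm a) s⁄R] →ₗ[Alg (cm a) s] κ) =
    Module.finrank κ (T s (algebraMap R κ ∘ a)) := by
  have e : (Ω[Alg (cm a) s⁄R] →ₗ[Alg (cm a) s] κ) ≃ₗ[κ] T s (algebraMap R κ ∘ a) :=
    LinearEquiv.ofBijective ((Phi a s κ).codRestrict _ (Phi_mem a s κ))
      ⟨fun x y h => Phi_injective a s κ (congrArg Subtype.val h), fun Y => by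
        obtain ⟨ℓ, hℓ⟩ := exists_Phi_eq a s κ Y.2
        exact ⟨ℓ, Subtype.ext hℓ⟩⟩
  exact e.finrank_eq

end Main

end K444.Tan
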