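import Groth.Agent.QuadGrp.K444.CD
import Groth.Agent.QuadGrp.K444.Tan
import Mathlib.RingTheory.Jacobson.Ring
import Mathlib.RingTheory.Localization.Away.Basic

/-!
# Paths of reflections in the orthogonal group, and the idempotents of the coordinate algebra
-/

set_option autoImplicit false
universe u v

open Matrix QuadGrp QuadraticMap TensorProduct

namespace K444.Path

open K916.Coord K916.Bridge K917.Coef K444.Tan K444.CD K918.Cliff

section Mat

variable {B : Type u} [CommRing B] {n : ℕ}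

theorem cond_mul {b : Sym2 (Fin n) → B} {g g' h h' : Matrix (Fin n) (Fin n) B} (hg : Cond (cm b) false g g')
    (hh : Cond (cm b) false h h') : Cond (cm b) false (g * h) (h' * g') where
  mul_inv := by rw [Matrix.mul_assoc, ← Matrix.mul_assoc h, hh.mul_inv, Matrix.one_mul, hg.mul_inv]
  inv_mul := by rw [Matrix.mul_assoc, ← Matrix.mul_assoc g', hg.inv_mul, Matrix.one_mul, hh.inv_mul]
  iso := by
    rw [isIso_cm_iff_pull, pull_mul, (isIso_cm_iff_pull _ _).1 hg.iso, (isIso_cm_iff_pull _ _).1 hh.iso]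
  det h := absurd h (by decide)

theorem cond_of_mem {b : Sym2 (Fin n) → B} {g : (Fin n → B) ≃ₗ[B] (Fin n → B)} (hg : g ∈ O (qf b)) :
    Cond (cm b) false (mt g) (mt g.symm) where
  mul_inv := mt_mul_mt_symm g
  inv_mul := mt_symm_mul_mt g
  iso := by
    have := isIso_mt hg
    rwa [cf_qf] at this
  det h := absurd h (by decide)

theorem mt_mul (g h : (Fin n → B) ≃ₗ[B] (Fin n → B)) : mt (g * h) = mt g * mt h := by
  rw [K916.Bridge.mt, K916.Bridge.mt, K916.Bridge.mt, ← LinearMap.toMatrix'_comp]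
  rfl

theorem mt_one : mt (1 : (Fin n → B) ≃ₗ[B] (Fin n → B)) = 1 := by
  rw [K916.Bridge.mt]
  exact LinearMap.toMatrix'_id

theorem mt_reflection (b : Sym2 (Fin n) → B) (x : Fin n → B) (c : B) (hc : c * qf b x = 1) (i j : Fin n) :
    mt (reflection (Q := qf b) x c hc) i j =
      (Pi.single j 1 : Fin n → B) i - polar (qf b) x (Pi.single j 1) * (c * x i) := by
  rw [K916.Bridge.mt, LinearMap.toMatrix'_apply]
  rfl

theorem map_mt_reflection {B' : Type v} [CommRing B'] (φ : B →+* B') (b : Sym2 (Fin n) → B) (x : Fin n → B) (c : B)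
    (hc : c * qf b x = 1) (c' : B') (x' : Fin n → B') (hx' : φ ∘ x = x') (hc' : c' * qf (φ ∘ b) x' = 1) :
    (mt (reflection (Q := qf b) x c hc)).map φ = mt (reflection (Q := qf (φ ∘ b)) x' c' hc') := by
  subst hx'
  have h1 : φ c * qf (φ ∘ b) (φ ∘ x) = 1 := by rw [← map_qf, ← map_mul, hc, map_one]
  have h2 : c' = φ c := by
    calc c' = c' * (φ c * qf (φ ∘ b) (φ ∘ x)) := by rw [h1, mul_one]
      _ = φ c * (c' * qf (φ ∘ b) (φ ∘ x)) := by ring
      _ = φ c := by rw [hc', mul_one]
  subst h2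
  ext i j
  have hs : φ ∘ (Pi.single j 1 : Fin n → B) = Pi.single j 1 := by
    funext k
    rw [Function.comp_apply, Pi.single_apply, Pi.single_apply]
    split_ifs <;> simp
  rw [Matrix.map_apply, mt_reflection, mt_reflection, map_sub, map_mul, map_mul, map_polar, hs, ← hs]
  rfl

end Mat

section Path

variable {R : Type u} [CommRing R] {n : ℕ} (a : Sym2 (Fin n) → R)
variable (K : Type u) [Field K] [Algebra R K]

/-- the form over an algebra -/
noncomputable abbrev fm (A : Type u) [CommRing A] [Algebra R A] : QuadraticForm A (Fin n → A) := qf (algebraMap R A ∘ a)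

theorem cond_alg {A : Type u} [CommRing A] [Algebra R A] {g g' : Matrix (Fin n) (Fin n) A}
    (h : Cond (cm (algebraMap R A ∘ a)) false g g') : Cond ((cm a).map (algebraMap R A)) false g g' := by
  rwa [cm_map]

/-- the point of an isometry -/
noncomputable def pt {A : Type u} [CommRing A] [Algebra R A] (g : (Fin n → A) ≃ₗ[A] (Fin n → A)) (hg : g ∈ O (fm a A)) :
    Alg (cm a) false →ₐ[R] A := K916.Coord.lift (cond_alg a (cond_of_mem hg))

theorem gen_map_pt {A : Type u} [CommRing A] [Algebra R A] (g : (Fin n → A) ≃ₗ[A] (Fin n → A)) (hg : g ∈ O (fm a A)) :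
    (gen (cm a) false).map (pt a g hg) = mt g := gen_map_lift _

/-- the generic value of the form -/
noncomputable def gp : MvPolynomial (Fin n) K := qf (algebraMap R (MvPolynomial (Fin n) K) ∘ a) MvPolynomial.X

/-- the ring of the open subset of anisotropic vectors -/
abbrev Bp : Type u := Localization.Away (gp a K)

theorem aeval_gp (v : Fin n → K) : MvPolynomial.aeval v (gp a K) = fm a K v := by
  have h := map_qf (MvPolynomial.aeval v : MvPolynomial (Fin n) K →ₐ[K] K).toRingHom
    (algebraMap R (MvPolynomial (Fin n) K) ∘ a) MvPolynomial.X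
  have h1 : (MvPolynomial.aeval v : MvPolynomial (Fin n) K →ₐ[K] K).toRingHom ∘ MvPolynomial.X = v := by
    funext i; exact MvPolynomial.aeval_X v i
  have h2 : (MvPolynomial.aeval v : MvPolynomial (Fin n) K →ₐ[K] K).toRingHom ∘
      (algebraMap R (MvPolynomial (Fin n) K) ∘ a) = algebraMap R K ∘ a := by
    funext s
    change (MvPolynomial.aeval v : MvPolynomial (Fin n) K →ₐ[K] K) (algebraMap R (MvPolynomial (Fin n) K) (a s)) = _
    rw [IsScalarTower.algebraMap_apply R K (MvPolynomial (Fin n) K), AlgHom.commutes]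
    rfl
  rw [h1, h2] at h
  exact h

theorem gp_ne_zero {v : Fin n → K} (hv : fm a K v ≠ 0) : gp a K ≠ 0 := by
  intro h
  apply hv
  rw [← aeval_gp, h, map_zero]

/-- evaluation at an anisotropic vector -/
noncomputable def ev' (v : Fin n → K) (hv : fm a K v ≠ 0) : Bp a K →ₐ[K] K :=
  IsLocalization.liftAlgHom (M := Submonoid.powers (gp a K)) (f := MvPolynomial.aeval v) (by
    rintro ⟨_, k, rfl⟩
    rw [map_pow, aeval_gp]
    exact (isUnit_iff_ne_zero.2 hv).pow k)

theorem ev'_algebraMap (v : Fin n → K) (hv : fm a K v ≠ 0) (p : MvPolynomial (Fin n) K) :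
    ev' a K v hv (algebraMap _ _ p) = MvPolynomial.aeval v p := by
  rw [ev', IsLocalization.liftAlgHom_apply, IsLocalization.lift_eq]
  rfl

/-- the generic vector -/
noncomputable def gx : Fin n → Bp a K := algebraMap (MvPolynomial (Fin n) K) (Bp a K) ∘ MvPolynomial.X

theorem ev'_gx (v : Fin n → K) (hv : fm a K v ≠ 0) : ev' a K v hv ∘ gx a K = v := by
  funext i
  rw [Function.comp_apply, gx, Function.comp_apply, ev'_algebraMap, MvPolynomial.aeval_X]

theorem fm_gx : fm a (Bp a K) (gx a K) = algebraMap _ _ (gp a K) := by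
  have h := map_qf (algebraMap (MvPolynomial (Fin n) K) (Bp a K)) (algebraMap R (MvPolynomial (Fin n) K) ∘ a)
    MvPolynomial.X
  have h2 : algebraMap (MvPolynomial (Fin n) K) (Bp a K) ∘ (algebraMap R (MvPolynomial (Fin n) K) ∘ a) =
      algebraMap R (Bp a K) ∘ a := by
    funext s
    exact (IsScalarTower.algebraMap_apply R (MvPolynomial (Fin n) K) (Bp a K) (a s)).symm
  rw [h2] at h
  exact h.symm

theorem inv_gx : IsLocalization.Away.invSelf (S := Bp a K) (gp a K) * fm a (Bp a K) (gx a K) = 1 := by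
  rw [fm_gx, mul_comm]
  exact IsLocalization.Away.mul_invSelf _

variable {K} in
/-- the value of an element of `K ⊗ C` at a `K`-point of `C` -/
noncomputable def F {C : Type u} [CommRing C] [Algebra R C] {B : Type u} [CommRing B] [Algebra R B] [Algebra K B]
    [IsScalarTower R K B] (φ : C →ₐ[R] B) : K ⊗[R] C →ₐ[K] B :=
  Algebra.TensorProduct.lift (Algebra.ofId K B) φ fun _ _ => Commute.all _ _

theorem F_comp {C : Type u} [CommRing C] [Algebra R C] {B : Type u} [CommRing B] [Algebra R B] [Algebra K B]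
    [IsScalarTower R K B] (φ : C →ₐ[R] B) (ev : B →ₐ[K] K) (e : K ⊗[R] C) :
    F ((ev.restrictScalars R).comp φ) e = ev (F φ e) := by
  have : F ((ev.restrictScalars R).comp φ) = ev.comp (F φ) := by
    apply Algebra.TensorProduct.ext'
    intro k c
    simp only [F, Algebra.TensorProduct.lift_tmul, AlgHom.comp_apply, map_mul]
    congr 1
    exact (ev.commutes k).symm
  rw [this]
  rfl

/-- the hypothesis of lifting of points of domains along `Spec C → Spec C₀` -/
def PH {C : Type u} [CommRing C] [Algebra R C] (π : Alg (cm a) false →ₐ[R] C) : Prop :=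
  ∀ (B : Type u) [CommRing B] [IsDomain B] [Algebra R B] [Algebra K B] [IsScalarTower R K B]
    (Φ₀ : Alg (cm a) false →ₐ[R] B) (ev : B →ₐ[K] K), (∃ φ : C →ₐ[R] K, φ.comp π = (ev.restrictScalars R).comp Φ₀) →
    ∃ Φ : C →ₐ[R] B, Φ.comp π = Φ₀

theorem tau_mul_mem {h : (Fin n → K) ≃ₗ[K] (Fin n → K)} (hh : h ∈ O (fm a K)) (v : Fin n → K) (hv : fm a K v ≠ 0) :
    tau (fm a K) v hv * h ∈ O (fm a K) := (O (fm a K)).mul_mem (tau_mem _ v hv) hh

theorem exists_path {C : Type u} [CommRing C] [Algebra R C] (π : Alg (cm a) false →ₐ[R] C) (hPH : PH a K π)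
    (epi : ∀ φ ψ : C →ₐ[R] K, φ.comp π = ψ.comp π → φ = ψ) {e : K ⊗[R] C} (he : IsIdempotentElem e)
    {h : (Fin n → K) ≃ₗ[K] (Fin n → K)} (hh : h ∈ O (fm a K)) (w : Fin n → K) (hw : fm a K w ≠ 0)
    (φ : C →ₐ[R] K) (hφ : φ.comp π = pt a _ (tau_mul_mem a K hh w hw)) (v : Fin n → K) (hv : fm a K v ≠ 0) :
    ∃ φ' : C →ₐ[R] K, φ'.comp π = pt a _ (tau_mul_mem a K hh v hv) ∧ F φ' e = F φ e := by
  have hdom : IsDomain (Bp a K) := IsLocalization.isDomain_localization
    (powers_le_nonZeroDivisors_of_noZeroDivisors (gp_ne_zero a K hw))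
  let r := reflection (Q := fm a (Bp a K)) (gx a K) _ (inv_gx a K)
  have hr : r ∈ O (fm a (Bp a K)) := fun x => reflection_isometry _ _ _ x
  have hhB := (cond_of_mem hh).map (algebraMap K (Bp a K))
  rw [cm_map] at hhB
  have hc : algebraMap K (Bp a K) ∘ (algebraMap R K ∘ a) = algebraMap R (Bp a K) ∘ a := by
    funext s
    exact (IsScalarTower.algebraMap_apply R K (Bp a K) (a s)).symm
  rw [hc] at hhB
  have hG := cond_mul (cond_of_mem hr) hhB
  let Φ₀ : Alg (cm a) false →ₐ[R] Bp a K := K916.Coord.lift (cond_alg a hG)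
  have hev : ∀ u (hu : fm a K u ≠ 0), ((ev' a K u hu).restrictScalars R).comp Φ₀ = pt a _ (tau_mul_mem a K hh u hu) := by
    intro u hu
    apply algHom_ext
    rw [gen_map_pt, mt_mul]
    have h1 : (gen (cm a) false).map (((ev' a K u hu).restrictScalars R).comp Φ₀) =
        (mt r * (mt h).map (algebraMap K (Bp a K))).map (ev' a K u hu).toRingHom := by
      have h2 : (gen (cm a) false).map Φ₀ = mt r * (mt h).map (algebraMap K (Bp a K)) := gen_map_lift _
      rw [← h2, Matrix.map_map]
      rfl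
    have h3 : (ev' a K u hu).toRingHom ∘ (algebraMap R (Bp a K) ∘ a) = algebraMap R K ∘ a := by
      funext s
      change (ev' a K u hu) (algebraMap R (Bp a K) (a s)) = _
      rw [IsScalarTower.algebraMap_apply R K (Bp a K), AlgHom.commutes]
      rfl
    have h5 : (u : Fin n → K) = (ev' a K u hu).toRingHom ∘ gx a K := (ev'_gx a K u hu).symm
    have h6 : (fm a K u)⁻¹ * qf ((ev' a K u hu).toRingHom ∘ (algebraMap R (Bp a K) ∘ a)) u = 1 := by
      rw [h3]; exact inv_mul_cancel₀ hu
    have h4 := map_mt_reflection (ev' a K u hu).toRingHom (algebraMap R (Bp a K) ∘ a) (gx a K) _ (inv_gx a K)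
      (fm a K u)⁻¹ u h5.symm h6
    rw [h1, Matrix.map_mul, h4]
    congr 1
    · congr 1
      simp only [h3]
      rfl
    · ext i j
      rw [Matrix.map_apply, Matrix.map_apply]
      exact (ev' a K u hu).commutes _
  obtain ⟨Φ, hΦ⟩ := hPH (Bp a K) Φ₀ (ev' a K w hw) ⟨φ, by rw [hφ, hev]⟩
  have hφw : φ = ((ev' a K w hw).restrictScalars R).comp Φ := by
    apply epi
    rw [hφ, AlgHom.comp_assoc, hΦ, hev]
  refine ⟨((ev' a K v hv).restrictScalars R).comp Φ, by rw [AlgHom.comp_assoc, hΦ, hev], ?_⟩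
  rw [hφw, F_comp, F_comp]
  have hi : IsIdempotentElem (F Φ e) := he.map (F (K := K) Φ)
  rcases IsIdempotentElem.iff_eq_zero_or_one.1 hi with h | h
  · rw [h, map_zero, map_zero]
  · rw [h, map_one, map_one]

end Path

end K444.Path
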